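import Cfsg.Agent.Lib.Fusion.ComponentImage
import Cfsg.Agent.Lib.Fusion.SolvConstrained
import Cfsg.Agent.Lib.Fusion.PAut
import Cfsg.Agent.Lib.FusionNormal.TransferCentral

/-!
# Constrained systems have no components

Maps induced on factor systems as functions, and the criterion that a system all of whose
automorphisms are conjugations modulo the centre is not quasisimple.
-/

set_option autoImplicit false

namespace CfsgLib.FusionLayer

open Cfsg Cfsg.FusionSystem CfsgLib.Fusion CfsgLib.FusionNormal CfsgLib.FusionTransport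

variable {Ω : Type*} [Group Ω] {S : Subgroup Ω} {F : FusionSystem S} {p : ℕ}

section induce

variable {Ω' : Type*} [Group Ω'] {θ : S →* Ω'} {S₀ : Subgroup Ω} {S' : Subgroup Ω'}
  {E : FusionSystem S'}

/-- A map on a full preimage induces a map of the factor system. -/
theorem mapFn_induce (hE : F.IsFactorSystem S₀ θ E) (hA : F.StronglyClosed S₀) {Q : Subgroup Ω'}
    (hQ : Q ≤ S') {k : Ω → Ω} (hk : MapFn F (preimageAlong θ Q) k) :
    ∃ u, MapFn E Q u ∧ ∀ x : S, (x : Ω) ∈ preimageAlong θ Q →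
      ∃ h : k x ∈ S, u (θ x) = θ ⟨k x, h⟩ := by
  obtain ⟨φ, hφ, hke⟩ := hk
  have hQr : Q ≤ θ.range := hE.2.2.1.symm ▸ hQ
  obtain ⟨φ', hφ'⟩ := FusionFactor.exists_induced hE.2.1 hA hQr hφ
  obtain ⟨u, hu, hue⟩ := mapFn_of_hom ((hE.2.2.2 _ _).mpr ⟨hQ, φ, hφ, hφ'⟩)
  refine ⟨u, hu, fun x hx => ?_⟩
  obtain ⟨hP, hφS, hm, hi⟩ := hφ'
  refine ⟨hke ⟨x, hx⟩ ▸ hφS _, ?_⟩
  exact (hue ⟨θ x, hm ⟨x, hx⟩⟩).symm.trans ((hi ⟨x, hx⟩).trans (congrArg θ (Subtype.ext (hke _))))

/-- Every map induces a map of the factor system on the image of its source. -/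
theorem mapFn_induce_any [Finite S] [Fact p.Prime] (hS : IsPGroup p S) (hF : F.IsSaturated p)
    (hA : F.StronglyClosed S₀) (hE : F.IsFactorSystem S₀ θ E) {P : Subgroup Ω} {k : Ω → Ω}
    (hk : MapFn F P k) :
    ∃ u, MapFn E (imageAlong θ P) u ∧ ∀ x : S, (x : Ω) ∈ P → ∃ h : k x ∈ S, u (θ x) = θ ⟨k x, h⟩ := by
  obtain ⟨φ, hφ, hke⟩ := hk
  obtain ⟨φ', hφ', hP, hφS, hm, hi⟩ := FusionFactor.exists_map_induced hS hF hA hE hφ
  obtain ⟨u, hu, hue⟩ := mapFn_of_hom hφ'
  refine ⟨u, hu, fun x hx => ⟨hke ⟨x, hx⟩ ▸ hφS _, ?_⟩⟩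
  exact (hue ⟨θ x, hm ⟨x, hx⟩⟩).symm.trans ((hi ⟨x, hx⟩).trans (congrArg θ (Subtype.ext (hke _))))

end induce

/-! ### Automizers that are `p`-groups -/

theorem pResidual_eq_bot {G : Type*} [Group G] [Fact p.Prime] (hG : IsPGroup p G) :
    pResidual p G = ⊥ :=
  eq_bot_iff.mpr ((CfsgLib.Transfer.pResidual_le_ker hG (MonoidHom.id G)).trans
    (fun _ hg => hg))

theorem hyperfocal_eq_bot [Fact p.Prime]
    (h : ∀ P, P ≤ S → IsPGroup p (F.autGroup P)) : F.hyperfocalSubgroup p = ⊥ := by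
  rw [FusionSystem.hyperfocalSubgroup, Subgroup.closure_eq_bot_iff]
  rintro _ ⟨P, α, x, hP, hα, rfl⟩
  rw [pResidual_eq_bot (h P hP), Subgroup.mem_bot] at hα
  subst hα
  simp

/-- A quasisimple system lives on a nontrivial group. -/
theorem quasisimple_factor [Finite S] (hC : F.Quasisimple p) :
    ∃ E : FusionSystem (⊤ : Subgroup (S ⧸ (F.center).subgroupOf S)),
      F.IsFactorSystem F.center (QuotientGroup.mk' ((F.center).subgroupOf S)) E ∧ E.IsSimple p := by
  obtain ⟨E, hE⟩ := FusionSolvable.exists_quotientFactor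
    (stronglyClosed_of_central (FusionExt.isCentral_center F))
  exact ⟨E, hE, hC.2.2 E hE⟩

theorem not_le_center_of_quasisimple [Finite S] (hC : F.Quasisimple p) : ¬ S ≤ F.center := by
  intro h
  obtain ⟨E, -, -, hne, -⟩ := quasisimple_factor hC
  refine hne (eq_bot_iff.mpr fun y _ => ?_)
  obtain ⟨x, rfl⟩ := QuotientGroup.mk'_surjective _ y
  rw [Subgroup.mem_bot, QuotientGroup.mk'_apply, QuotientGroup.eq_one_iff]
  exact h x.2

theorem not_quasisimple_of_pGroup [Finite S] [Fact p.Prime] (hC : F.Quasisimple p)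
    (h : ∀ P, P ≤ S → IsPGroup p (F.autGroup P)) : False := by
  refine not_le_center_of_quasisimple hC ?_
  have h1 := hC.2.1
  rw [hyperfocal_eq_bot h] at h1
  exact h1.ge.trans bot_le

theorem isPGroup_autGroup_of_conj [Fact p.Prime] {Q : Subgroup Ω} (hQ : IsPGroup p Q)
    (h : ∀ (P : Subgroup Ω) (φ : P →* Ω), φ ∈ F.Hom P → ∃ g ∈ Q, ∀ x : P, φ x = g * (x : Ω) * g⁻¹)
    {P : Subgroup Ω} (hP : P ≤ S) : IsPGroup p (F.autGroup P) := by
  refine (isPGroup_autInducedBy hQ P).to_le fun α hα => ?_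
  obtain ⟨g, hg, hge⟩ := h P _ ((mem_autGroup hP).mp hα)
  exact mem_autInducedBy.mpr ⟨g, hg, fun x => hge x⟩

/-- If every map is a conjugation modulo the centre, the automizers are `p`-groups. -/
theorem isPGroup_autGroup_of_conj_mod_center [Finite S] [Fact p.Prime] (hS : IsPGroup p S)
    (h : ∀ (P : Subgroup Ω) (f : Ω → Ω), MapFn F P f → f '' P = (P : Set Ω) →
      ∃ s ∈ S, ∀ x ∈ P, (s * x * s⁻¹)⁻¹ * f x ∈ F.center)
    {P : Subgroup Ω} (hP : P ≤ S) : IsPGroup p (F.autGroup P) := by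
  rintro ⟨α, hα⟩
  have := finite_of_le hP
  obtain ⟨f, hf, hfr, hfe⟩ := exists_mapFn_of_aut hP hα
  obtain ⟨s, hs, hse⟩ := h P f hf hfr
  have hn : S ≤ Subgroup.normalizer (F.center : Set Ω) :=
    FusionExtend.sc_normalizer (stronglyClosed_of_central (FusionExt.isCentral_center F))
  obtain ⟨k, hk⟩ := hS ⟨s, hs⟩
  have hk' : s ^ p ^ k = 1 := congrArg Subtype.val hk
  have hit : ∀ (m : ℕ) (x : P), (s ^ m * (x : Ω) * (s ^ m)⁻¹)⁻¹ * (((α ^ m) x : P) : Ω) ∈ F.center := by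
    intro m
    induction m with
    | zero => intro x; simp
    | succ m ih =>
      intro x
      have h1 := ih (α x)
      have h2 := hse x x.2
      rw [hfe] at h2
      have h3 := conj_mem_of_normalizer (hn (S.pow_mem hs m)) h2
      have h4 := F.center.mul_mem h3 h1
      rw [pow_succ, pow_succ, MulAut.mul_apply]
      simpa [mul_assoc] using h4
  let L : ℕ → Subgroup P := fun i => if i = 0 then F.center.subgroupOf P else ⊤
  obtain ⟨l, hl⟩ := exists_pow_eq_one_of_stabilizes (hS.to_le hP) L (n := 1)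
    (fun i hi => by obtain rfl : i = 0 := (by omega); simp [L]) (by simp [L]) (α := α ^ p ^ k)
    ⟨0, fun x hx => by
      rw [pow_zero, pow_one]
      exact Subtype.ext (center_fixed ((mem_autGroup hP).mp (Subgroup.pow_mem _ hα _)) x
        (by simpa [L, Subgroup.mem_subgroupOf] using hx))⟩
    fun i hi x _ => by
      obtain rfl : i = 0 := by omega
      have h1 := hit (p ^ k) x
      simp only [hk', one_mul, inv_one, mul_one] at h1
      simpa [L, Subgroup.mem_subgroupOf] using h1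
  exact ⟨k + l, Subtype.ext (by simpa [pow_add, pow_mul] using hl)⟩

/-- A constrained system is not quasisimple. -/
theorem not_quasisimple_of_constrained [Finite S] [Fact p.Prime] (hS : IsPGroup p S)
    (hc : F.IsConstrained p) (hq : F.Quasisimple p) : False := by
  obtain ⟨E, hE, hEs, -, hmin⟩ := quasisimple_factor hq
  set Z := F.center with hZ
  set θ := QuotientGroup.mk' (Z.subgroupOf S)
  have hZc : F.IsCentral Z := FusionExt.isCentral_center F
  have hA : F.StronglyClosed Z := stronglyClosed_of_central hZc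
  have hQn : F.IsNormal F.core := FusionExt.isNormal_core F
  set Q := F.core with hQdef
  have hk0 := hE.2.1
  have hEp : IsPGroup p (⊤ : Subgroup (S ⧸ Z.subgroupOf S)) := (hS.to_quotient _).to_subgroup ⊤
  have hn : E.IsNormal (imageAlong θ Q) := by
    refine isNormal_of_mapFn le_top fun P' u hu => ?_
    obtain ⟨k, hk, hku⟩ := mapFn_factor hE hu
    obtain ⟨g, hg, hgP, hgQ⟩ := isNormal_mapFn hQn hk
    have hle : preimageAlong θ P' ⊔ Q ≤ S := sup_le (FusionFactor.preimageAlong_le _) hQn.1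
    have hpre : preimageAlong θ (imageAlong θ (preimageAlong θ P' ⊔ Q)) = preimageAlong θ P' ⊔ Q := by
      rw [FusionFactor.preimageAlong_imageAlong hk0 hA.1 hle, sup_eq_left]
      exact (FusionFactor.kernel_le_preimageAlong hk0 hA.1 P').trans le_sup_left
    obtain ⟨v, hv, hvg⟩ := mapFn_induce hE hA le_top (hpre.symm ▸ hg)
    have hP' : P' ≤ θ.range := hE.2.2.1.symm ▸ le_top
    have himg : imageAlong θ (preimageAlong θ P' ⊔ Q) = P' ⊔ imageAlong θ Q := by
      rw [imageAlong, Subgroup.subgroupOf_sup (FusionFactor.preimageAlong_le _) hQn.1, Subgroup.map_sup]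
      exact congrArg (· ⊔ imageAlong θ Q) (FusionFactor.imageAlong_preimageAlong hP')
    refine ⟨v, himg ▸ hv, fun y hy => ?_, ?_⟩
    · obtain ⟨x, hx, hxP, hxy⟩ := FusionFactor.exists_preimage hP' ⟨y, hy⟩
      obtain ⟨h1, h2⟩ := hvg ⟨x, hx⟩ (hpre.symm ▸ Subgroup.mem_sup_left hxP)
      obtain ⟨h3, h4⟩ := hku ⟨x, hx⟩ hxP
      rw [← show θ ⟨x, hx⟩ = y from hxy, h2, h4]
      exact congrArg θ (Subtype.ext (hgP x hxP))
    · have hgm : ∀ x : S, (x : Ω) ∈ Q → (g x ∈ Q ∧ ∃ h : g x ∈ S, v (θ x) = θ ⟨g x, h⟩) := fun x hx =>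
        ⟨mem_of_image hgQ hx, hvg x (hpre.symm ▸ Subgroup.mem_sup_right hx)⟩
      ext y
      constructor
      · rintro ⟨_, ⟨x, hx, rfl⟩, rfl⟩
        obtain ⟨h1, h2, h3⟩ := hgm x hx
        exact ⟨⟨g x, h2⟩, h1, h3.symm⟩
      · rintro ⟨x, hx, rfl⟩
        obtain ⟨w, hw, hwx⟩ := exists_of_image hgQ hx
        obtain ⟨-, h2, h3⟩ := hgm ⟨w, hQn.1 hw⟩ hw
        exact ⟨_, ⟨⟨w, hQn.1 hw⟩, hw, rfl⟩, h3.trans (congrArg θ (Subtype.ext hwx))⟩
  rcases hmin _ _ (inner_isNormalIn hEp hEs hn) with hb | ⟨htop, hinner⟩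
  · refine not_le_center_of_quasisimple hq fun s hs => ?_
    have hQZ : Q ≤ Z := fun x hx => (hk0 ⟨x, hQn.1 hx⟩).mp
      (Subgroup.mem_bot.mp (hb ▸ ⟨⟨x, hQn.1 hx⟩, hx, rfl⟩))
    refine hQZ (FusionSolv.centralizerIn_le_core hS hc (mem_centralizerIn.mpr ⟨hs, fun x hx => ?_⟩))
    exact (F.center_le_centralizer (hQZ hx) s hs).symm
  · refine not_quasisimple_of_pGroup hq fun P hP =>
      isPGroup_autGroup_of_conj_mod_center hS (fun R f hf _ => ?_) hP
    obtain ⟨u, hu, huf⟩ := mapFn_induce_any hS hq.1 hA hE hf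
    obtain ⟨φ, hφ, hue⟩ := hu
    rw [← hinner] at hφ
    obtain ⟨-, g, -, hg⟩ := hφ
    obtain ⟨⟨s, hs⟩, rfl⟩ := QuotientGroup.mk'_surjective _ g
    refine ⟨s, hs, fun x hx => ?_⟩
    obtain ⟨hfx, h1⟩ := huf ⟨x, hf.le_S hx⟩ hx
    rw [← hue ⟨θ ⟨x, hf.le_S hx⟩, ⟨⟨x, hf.le_S hx⟩, hx, rfl⟩⟩, hg] at h1
    have h2 := (FusionFactor.theta_eq_iff hk0 (⟨s, hs⟩ * ⟨x, hf.le_S hx⟩ * ⟨s, hs⟩⁻¹) ⟨f x, hfx⟩).mp (by
      rw [map_mul, map_mul, map_inv]; exact h1)
    exact h2

/-- Subnormal subsystems of constrained systems are constrained. -/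
theorem constrained_of_subnormalIn {T S : Subgroup Ω} {C : FusionSystem T} {F : FusionSystem S} {p : ℕ}
    (h : C.IsSubnormalIn F p) : Fact p.Prime → Finite S → IsPGroup p S → F.IsConstrained p →
      C.IsConstrained p := by
  induction h with
  | refl => exact fun _ _ _ hc => hc
  | step _ hN ih =>
    intro hp hfin hS hc
    have hle := hN.1.2.2.2.1.1
    exact ih hp (finite_of_le hle) (hS.to_le hle) (constrained_of_weaklyNormal hS hc hN.1)

/-- A constrained system has no component. -/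
theorem not_component_of_constrained [Finite S] [Fact p.Prime] (hS : IsPGroup p S)
    (hc : F.IsConstrained p) {T : Subgroup Ω} (C : FusionSystem T) : ¬ C.IsComponentIn F p := by
  rintro ⟨hsub, hq⟩
  have hle := le_of_subnormal hsub
  have := finite_of_le hle
  exact not_quasisimple_of_constrained (hS.to_le hle)
    (constrained_of_subnormalIn hsub inferInstance inferInstance hS hc) hq

end CfsgLib.FusionLayer
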