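import Cfsg.Agent.Lib.Transfer.Basic
import Mathlib.GroupTheory.NoncommCoprod
import Mathlib.GroupTheory.Transfer

/-!
# Group lemmas for lifting through central extensions

`exists_cut`: a central `p`-subgroup `K` meeting `W` trivially, with `W K` of index prime to `p` and no
fusion between different cosets of `W` in `W K`, has a normal complement containing `W` and all
elements of order prime to `p` (the kernel of a transfer).
-/

set_option autoImplicit false

namespace CfsgLib.FusionLayer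

open scoped IsMulCommutative

variable {G : Type*} [Group G] {p : ℕ} [Fact p.Prime]

theorem exists_cut [Finite G] (W K : Subgroup G) (hKc : K ≤ Subgroup.center G) (hKp : IsPGroup p K)
    (hdisj : W ⊓ K = ⊥) (hidx : ¬ p ∣ (W ⊔ K).index)
    (hfus : ∀ g : G, ∀ w ∈ W, ∀ k ∈ K, g * w * g⁻¹ * k ∈ W → k = 1) :
    ∃ A : Subgroup G, A.Normal ∧ W ≤ A ∧ (∀ g : G, (orderOf g).Coprime p → g ∈ A) ∧ A ⊓ K = ⊥ := by
  classical
  haveI : IsMulCommutative K := ⟨⟨fun a b => Subtype.ext (Subgroup.mem_center_iff.mp (hKc b.2) a)⟩⟩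
  have hcomm : ∀ (w : W) (k : K), Commute (W.subtype w) (K.subtype k) := fun w k =>
    Subgroup.mem_center_iff.mp (hKc k.2) w
  let f : W × K →* G := MonoidHom.noncommCoprod W.subtype K.subtype hcomm
  have hfr : f.range = W ⊔ K := by
    rw [MonoidHom.noncommCoprod_range, Subgroup.range_subtype, Subgroup.range_subtype]
  have hf : Function.Injective f := by
    rw [injective_iff_map_eq_one]
    rintro ⟨w, k⟩ (h : (w : G) * k = 1)
    have hw : (w : G) ∈ W ⊓ K := ⟨w.2, by rw [eq_inv_of_mul_eq_one_left h]; exact K.inv_mem k.2⟩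
    rw [hdisj, Subgroup.mem_bot] at hw
    rw [hw, one_mul] at h
    exact Prod.ext (Subtype.ext hw) (Subtype.ext h)
  let proj : ↥(W ⊔ K) →* K :=
    ((MonoidHom.snd W K).comp (MonoidHom.ofInjective hf).symm.toMonoidHom).comp
      (Subgroup.inclusion hfr.ge)
  have hproj : ∀ (w : W) (k : K) (h : (w : G) * k ∈ W ⊔ K), proj ⟨(w : G) * k, h⟩ = k := by
    intro w k h
    show ((MonoidHom.ofInjective hf).symm ⟨(w : G) * k, _⟩).2 = k
    rw [show (⟨(w : G) * k, hfr.ge h⟩ : f.range) = MonoidHom.ofInjective hf (w, k) from Subtype.ext rfl,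
      MulEquiv.symm_apply_apply]
  set V := MonoidHom.transfer proj with hV
  refine ⟨V.ker, inferInstance, fun w hw => ?_, fun g hg => ?_, ?_⟩
  · rw [MonoidHom.mem_ker, hV]
    let _ := Fintype.ofFinite (Quotient (MulAction.orbitRel (Subgroup.zpowers w) (G ⧸ (W ⊔ K))))
    rw [MonoidHom.transfer_eq_prod_quotient_orbitRel_zpowers_quot]
    refine Finset.prod_eq_one fun q _ => ?_
    set m := Function.minimalPeriod (w • ·) q.out
    set g := q.out.out
    have hm := QuotientGroup.out_conj_pow_minimalPeriod_mem (W ⊔ K) w q.out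
    obtain ⟨⟨u, k⟩, huk⟩ := hfr.ge hm
    change (u : G) * k = g⁻¹ * w ^ m * g at huk
    have hk : k = 1 := by
      refine inv_eq_one.mp (Subtype.ext (hfus g⁻¹ (w ^ m) (W.pow_mem hw m) (k : G)⁻¹ (K.inv_mem k.2) ?_))
      rw [inv_inv, ← huk, mul_inv_cancel_right]
      exact u.2
    calc proj ⟨_, hm⟩ = proj ⟨(u : G) * k, huk ▸ hm⟩ := congrArg proj (Subtype.ext huk.symm)
      _ = k := hproj u k _
      _ = 1 := hk
  · exact CfsgLib.Transfer.pResidual_le_ker hKp V (CfsgLib.Transfer.mem_pResidual hg)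
  · rw [eq_bot_iff]
    rintro k ⟨hkV, hk⟩
    have hkey : ∀ (j : ℕ) (g₀ : G), g₀⁻¹ * k ^ j * g₀ ∈ W ⊔ K → g₀⁻¹ * k ^ j * g₀ = k ^ j := fun j g₀ _ => by
      rw [mul_assoc, ← Subgroup.mem_center_iff.mp (hKc (K.pow_mem hk j)) g₀, inv_mul_cancel_left]
    have h1 := MonoidHom.mem_ker.mp hkV
    rw [hV, MonoidHom.transfer_eq_pow proj k hkey] at h1
    have h2 : proj ⟨k ^ (W ⊔ K).index, MonoidHom.transfer_eq_pow_aux k hkey⟩ =
        ⟨k ^ (W ⊔ K).index, K.pow_mem hk _⟩ := by
      refine (congrArg proj (Subtype.ext ?_)).trans (hproj 1 ⟨k ^ (W ⊔ K).index, K.pow_mem hk _⟩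
        (by rw [Subgroup.coe_one, one_mul]; exact Subgroup.mem_sup_right (K.pow_mem hk _)))
      simp
    have h3 : k ^ (W ⊔ K).index = 1 := congrArg Subtype.val (h2.symm.trans h1)
    obtain ⟨n, hn⟩ := hKp ⟨k, hk⟩
    have hn' : k ^ p ^ n = 1 := congrArg Subtype.val hn
    have hcop : ((W ⊔ K).index).Coprime (p ^ n) :=
      (((Nat.Prime.coprime_iff_not_dvd Fact.out).mpr hidx).pow_left n).symm
    rw [Subgroup.mem_bot, ← pow_one k, ← hcop.gcd_eq_one]
    exact pow_gcd_eq_one.mpr ⟨h3, hn'⟩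

/-- A subgroup with a subgroup of index prime to `p` and all elements of order prime to `p` is everything. -/
theorem eq_top_of_coprime_index [Finite G] {H V : Subgroup G} (hV : V ≤ H) (hi : ¬ p ∣ V.index)
    (hp' : ∀ g : G, (orderOf g).Coprime p → g ∈ H) : H = ⊤ :=
  CfsgLib.Transfer.eq_top_of_pResidual_le (CfsgLib.Transfer.pResidual_le_iff.mpr hp')
    fun h => hi (h.trans (Subgroup.index_dvd_of_le hV))

/-- The coprime commutator trick. -/
theorem mem_of_double_commutator (I : Subgroup G) [I.Normal] {a c d : G} (ha : (orderOf a).Coprime p)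
    (hd : d = a * c * a⁻¹ * c⁻¹) (hdd : a * d * a⁻¹ * d⁻¹ ∈ I) {k : ℕ} (hp : d ^ p ^ k ∈ I) :
    d ∈ I := by
  let π := QuotientGroup.mk' I
  have hπ : ∀ x : G, π x = 1 ↔ x ∈ I := fun x => QuotientGroup.eq_one_iff x
  have h1 : π a * π d = π d * π a := by
    have := (hπ _).mpr hdd
    rw [map_mul, map_mul, map_mul, map_inv, map_inv, mul_inv_eq_one, mul_inv_eq_iff_eq_mul] at this
    exact this
  have h2 : π a * π c = π d * π c * π a := by
    rw [hd]; simp
  have hit : ∀ i : ℕ, π a ^ i * π c = π d ^ i * π c * π a ^ i := by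
    intro i
    induction i with
    | zero => simp
    | succ i ih =>
      have hc : π a * π d ^ i = π d ^ i * π a := (show Commute (π a) (π d) from h1).pow_right i
      calc π a ^ (i + 1) * π c = π a * (π a ^ i * π c) := by rw [pow_succ', mul_assoc]
        _ = π a * π d ^ i * π c * π a ^ i := by rw [ih]; group
        _ = π d ^ i * (π a * π c) * π a ^ i := by rw [hc]; group
        _ = π d ^ i * π d * π c * (π a * π a ^ i) := by rw [h2]; group
        _ = π d ^ (i + 1) * π c * π a ^ (i + 1) := by rw [pow_succ, pow_succ']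
  have hm : π a ^ orderOf a = 1 := by rw [← map_pow, pow_orderOf_eq_one, map_one]
  have h3 := hit (orderOf a)
  rw [hm, one_mul, mul_one, eq_comm, mul_eq_right] at h3
  have h4 : π d ^ p ^ k = 1 := by rw [← map_pow]; exact (hπ _).mpr hp
  rw [← hπ, ← pow_one (π d), ← (ha.pow_right k).gcd_eq_one]
  exact pow_gcd_eq_one.mpr ⟨h3, h4⟩

end CfsgLib.FusionLayer
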