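import Cfsg.Agent.Lib.FusionLayer.Basics
import Cfsg.Agent.Lib.Fusion.PPrimeNormal
import Cfsg.Agent.Lib.FusionNormal.Build
import Cfsg.Agent.Lib.PCore.Basic

/-!
# Maps lying over a normal subsystem of a central factor system

`F` is saturated over `S`, `Z` is central in `F`, `E` is the factor system read through `θ` and `N` is
a normal subsystem of `E` over `T'`. `D₀` is the system of the maps of `F` on subgroups of the
preimage `T` of `T'` whose induced maps lie in `N`.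
-/

set_option autoImplicit false

namespace CfsgLib.FusionLayer

open Cfsg Cfsg.FusionSystem CfsgLib.Fusion CfsgLib.FusionNormal CfsgLib.FusionTransport

variable {Ω Ω' : Type*} [Group Ω] [Group Ω'] {S : Subgroup Ω}

open scoped Classical in
/-- A homomorphism on `S` extended by `1`. -/
noncomputable def img (θ : S →* Ω') (x : Ω) : Ω' := if h : x ∈ S then θ ⟨x, h⟩ else 1

section img

variable {θ : S →* Ω'} {x y : Ω}

theorem img_eq (h : x ∈ S) : img θ x = θ ⟨x, h⟩ := dif_pos h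

theorem img_coe (s : S) : img θ (s : Ω) = θ s := img_eq s.2

theorem img_mul (hx : x ∈ S) (hy : y ∈ S) : img θ (x * y) = img θ x * img θ y := by
  rw [img_eq (S.mul_mem hx hy), img_eq hx, img_eq hy, ← map_mul]; rfl

theorem img_inv (hx : x ∈ S) : img θ x⁻¹ = (img θ x)⁻¹ := by
  rw [img_eq (S.inv_mem hx), img_eq hx, ← map_inv]; rfl

theorem img_one : img θ (1 : Ω) = 1 := (img_eq S.one_mem).trans (map_one θ)

theorem img_conj (hx : x ∈ S) (hy : y ∈ S) :
    img θ (x * y * x⁻¹) = img θ x * img θ y * (img θ x)⁻¹ := by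
  rw [img_mul (S.mul_mem hx hy) (S.inv_mem hx), img_mul hx hy, img_inv hx]

theorem img_mem_imageAlong {P : Subgroup Ω} (hP : P ≤ S) (hx : x ∈ P) : img θ x ∈ imageAlong θ P :=
  ⟨⟨x, hP hx⟩, hx, (img_eq _).symm⟩

theorem exists_of_mem_imageAlong {P : Subgroup Ω} {z : Ω'} (hz : z ∈ imageAlong θ P) :
    ∃ x ∈ P, x ∈ S ∧ img θ x = z := by
  obtain ⟨s, hs, rfl⟩ := hz
  exact ⟨s, hs, s.2, img_coe s⟩

theorem mem_preimageAlong_iff {Q : Subgroup Ω'} :
    x ∈ preimageAlong θ Q ↔ x ∈ S ∧ img θ x ∈ Q := by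
  rw [FusionFactor.mem_preimageAlong]
  constructor
  · rintro ⟨h, h'⟩
    exact ⟨h, by rw [img_eq h]; exact h'⟩
  · rintro ⟨h, h'⟩
    exact ⟨h, by rwa [img_eq h] at h'⟩

/-- The automorphisms acting trivially on the image. -/
noncomputable def trivImg (θ : S →* Ω') (P : Subgroup Ω) : Subgroup (MulAut P) where
  carrier := {a | ∀ x : P, img θ ((a x : P) : Ω) = img θ x}
  one_mem' _ := rfl
  mul_mem' {a b} ha hb x := (ha (b x)).trans (hb x)
  inv_mem' {a} ha x := by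
    have := ha (a⁻¹ x)
    rw [MulAut.apply_inv_self] at this
    exact this.symm

/-- `b` on the image is induced by `a` on the source. -/
def Down (θ : S →* Ω') {P : Subgroup Ω} (a : MulAut P) (b : MulAut (imageAlong θ P)) : Prop :=
  ∀ (x : P) (h : img θ x ∈ imageAlong θ P),
    ((b ⟨img θ x, h⟩ : imageAlong θ P) : Ω') = img θ ((a x : P) : Ω)

variable {P : Subgroup Ω} (hP : P ≤ S)
include hP

theorem down_unique {a : MulAut P} {b b' : MulAut (imageAlong θ P)} (h : Down θ a b) (h' : Down θ a b') :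
    b = b' := by
  refine MulEquiv.ext fun ⟨y, hy⟩ => Subtype.ext ?_
  obtain ⟨x, hx, -, rfl⟩ := exists_of_mem_imageAlong hy
  rw [h ⟨x, hx⟩ hy, h' ⟨x, hx⟩ hy]

theorem down_one : Down θ (1 : MulAut P) 1 := fun _ _ => rfl

theorem down_mul {a a' : MulAut P} {b b' : MulAut (imageAlong θ P)} (h : Down θ a b) (h' : Down θ a' b') :
    Down θ (a * a') (b * b') := by
  intro x hx
  have e : b' ⟨img θ x, hx⟩ = ⟨img θ ((a' x : P) : Ω), img_mem_imageAlong hP (a' x).2⟩ := Subtype.ext (h' x hx)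
  rw [MulAut.mul_apply, e]
  exact h (a' x) _

theorem down_conj {z : Ω} (hz : z ∈ S) {a : MulAut P} (ha : ∀ x : P, ((a x : P) : Ω) = z * x * z⁻¹)
    {b : MulAut (imageAlong θ P)} (hb : ∀ y : imageAlong θ P, ((b y : imageAlong θ P) : Ω') = img θ z * y * (img θ z)⁻¹) :
    Down θ a b := fun x _ => by rw [hb, ha, img_conj hz (hP x.2)]

end img

variable {F : FusionSystem S} {θ : S →* Ω'} {Z : Subgroup Ω} {S' : Subgroup Ω'} {E : FusionSystem S'}
  {T' : Subgroup Ω'} {N : FusionSystem T'} {p : ℕ}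

/-- `f` lies over a map of `N`. -/
def Over (θ : S →* Ω') (N : FusionSystem T') (P : Subgroup Ω) (f : Ω → Ω) : Prop :=
  ∃ u, MapFn N (imageAlong θ P) u ∧ ∀ x ∈ P, u (img θ x) = img θ (f x)

/-- The standing hypotheses. -/
structure LiftSetup (p : ℕ) (F : FusionSystem S) (θ : S →* Ω') (Z : Subgroup Ω) (E : FusionSystem S')
    (N : FusionSystem T') : Prop where
  pgroup : IsPGroup p S
  sat : F.IsSaturated p
  central : F.IsCentral Z
  factor : F.IsFactorSystem Z θ E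
  normal : N.IsNormalIn E p

namespace LiftSetup

variable (h : LiftSetup p F θ Z E N)
include h

theorem scZ : F.StronglyClosed Z := stronglyClosed_of_central h.central

theorem Z_le : Z ≤ S := h.central.1

theorem T'_le : T' ≤ S' := h.normal.1.2.2.2.1.1

theorem le_range {Q : Subgroup Ω'} (hQ : Q ≤ T') : Q ≤ θ.range := h.factor.2.2.1.symm ▸ hQ.trans h.T'_le

theorem finite_factor [Finite S] : Finite S' := by
  rw [← h.factor.2.2.1]
  exact Finite.of_surjective θ.rangeRestrict θ.rangeRestrict_surjective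

theorem finite_T' [Finite S] : Finite T' :=
  haveI := h.finite_factor
  finite_of_le h.T'_le

theorem pgroup_factor : IsPGroup p S' := by
  rw [← h.factor.2.2.1]
  exact h.pgroup.of_surjective θ.rangeRestrict θ.rangeRestrict_surjective

theorem pgroup_T' : IsPGroup p T' := h.pgroup_factor.to_le h.T'_le

theorem img_eq_one {x : Ω} (hx : x ∈ S) : img θ x = 1 ↔ x ∈ Z := by
  rw [img_eq hx]; exact h.factor.2.1 ⟨x, hx⟩

theorem img_eq_img {a b : Ω} (ha : a ∈ S) (hb : b ∈ S) : img θ a = img θ b ↔ a⁻¹ * b ∈ Z := by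
  rw [img_eq ha, img_eq hb, FusionFactor.theta_eq_iff h.factor.2.1]

theorem Z_le_pre (Q : Subgroup Ω') : Z ≤ preimageAlong θ Q :=
  FusionFactor.kernel_le_preimageAlong h.factor.2.1 h.Z_le Q

theorem pre_bar {P : Subgroup Ω} (hP : P ≤ S) (hZ : Z ≤ P) : preimageAlong θ (imageAlong θ P) = P := by
  rw [FusionFactor.preimageAlong_imageAlong h.factor.2.1 h.Z_le hP, sup_eq_left.mpr hZ]

theorem bar_pre {Q : Subgroup Ω'} (hQ : Q ≤ T') : imageAlong θ (preimageAlong θ Q) = Q :=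
  FusionFactor.imageAlong_preimageAlong (h.le_range hQ)

theorem exists_img {y : Ω'} (hy : y ∈ T') : ∃ x ∈ preimageAlong θ T', img θ x = y := by
  obtain ⟨x, hx, hxT, e⟩ := FusionFactor.exists_preimage (h.le_range le_rfl) ⟨y, hy⟩
  exact ⟨x, hxT, (img_eq hx).trans e⟩

theorem bar_sup_Z {P : Subgroup Ω} (hP : P ≤ S) : imageAlong θ (P ⊔ Z) = imageAlong θ P := by
  refine le_antisymm ?_ (FusionSolvable.imageAlong_mono le_sup_left)
  rintro _ ⟨x, hx, rfl⟩
  have hx' : (x : Ω) ∈ preimageAlong θ (imageAlong θ P) := by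
    rw [FusionFactor.preimageAlong_imageAlong h.factor.2.1 h.Z_le hP]; exact hx
  exact FusionFactor.map_mem_of_mem_preimageAlong hx' x.2

theorem exists_split {P : Subgroup Ω} (hP : P ≤ S) {x : Ω} (hx : x ∈ P ⊔ Z) :
    ∃ a ∈ P, a⁻¹ * x ∈ Z ∧ img θ a = img θ x := by
  have hxS : x ∈ S := sup_le hP h.Z_le hx
  obtain ⟨a, ha, haS, e⟩ := exists_of_mem_imageAlong (θ := θ)
    (h.bar_sup_Z hP ▸ img_mem_imageAlong (θ := θ) (sup_le hP h.Z_le) hx)
  exact ⟨a, ha, (h.img_eq_img haS hxS).mp e, e⟩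

theorem Z_comm {z x : Ω} (hz : z ∈ Z) (hx : x ∈ S) : z * x = x * z :=
  ((le_sSup h.central : Z ≤ F.center).trans F.center_le_centralizer hz x hx).symm

theorem fix {P : Subgroup Ω} {f : Ω → Ω} (hf : MapFn F P f) {z : Ω} (hz : z ∈ Z) (hzP : z ∈ P) :
    f z = z := by
  obtain ⟨g, -, hgP, hgZ⟩ := mapFn_central h.central hf
  rw [← hgP z hzP, hgZ z hz]

/-- Maps respect equality of images. -/
theorem img_congr {P : Subgroup Ω} {f : Ω → Ω} (hf : MapFn F P f) {a b : Ω} (ha : a ∈ P) (hb : b ∈ P)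
    (e : img θ a = img θ b) : img θ (f a) = img θ (f b) := by
  have hz := (h.img_eq_img (hf.le_S ha) (hf.le_S hb)).mp e
  rw [h.img_eq_img (hf.mem_S ha) (hf.mem_S hb), ← hf.map_inv ha, ← hf.map_mul (P.inv_mem ha) hb,
    h.fix hf hz (P.mul_mem (P.inv_mem ha) hb)]
  exact hz

variable [Finite S] [Fact p.Prime]

theorem scT : F.StronglyClosed (preimageAlong θ T') :=
  FusionSolvable.sc_preimageAlong h.pgroup h.sat h.scZ h.factor h.normal.1.2.2.2.1

theorem conj_mem_T {s x : Ω} (hs : s ∈ S) (hx : x ∈ preimageAlong θ T') :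
    s * x * s⁻¹ ∈ preimageAlong θ T' :=
  conj_mem_of_normalizer (StronglyClosed.le_normalizer h.scT hs) hx

theorem bar_le {P : Subgroup Ω} (hP : P ≤ preimageAlong θ T') : imageAlong θ P ≤ T' :=
  (FusionSolvable.imageAlong_mono hP).trans (h.bar_pre le_rfl).le

theorem pgroup_T : IsPGroup p (preimageAlong θ T') := h.pgroup.to_le (FusionFactor.preimageAlong_le _)

theorem mapPred_inv {P R : Subgroup Ω} {f g : Ω → Ω} (hf : MapFn F P f) (hPT : P ≤ preimageAlong θ T')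
    (hO : Over θ N P f) (hr : f '' P = (R : Set Ω)) (hg : ∀ x ∈ P, g (f x) = x) : Over θ N R g := by
  obtain ⟨u, hu, hue⟩ := hO
  have hPS : P ≤ S := hf.le_S
  have hR : u '' (imageAlong θ P) = (imageAlong θ R : Set Ω') := by
    ext y
    constructor
    · rintro ⟨_, hz, rfl⟩
      obtain ⟨x, hx, -, rfl⟩ := exists_of_mem_imageAlong hz
      rw [hue x hx]
      exact img_mem_imageAlong (fun z hz => by
        obtain ⟨w, hw, rfl⟩ := exists_of_image hr hz
        exact hf.mem_S hw) (mem_of_image hr hx)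
    · intro hy
      obtain ⟨_, hx', -, rfl⟩ := exists_of_mem_imageAlong hy
      obtain ⟨x, hx, rfl⟩ := exists_of_image hr hx'
      exact ⟨_, img_mem_imageAlong hPS hx, hue x hx⟩
  obtain ⟨v, hv, -, hv₁, -⟩ := hu.exists_inv hR
  refine ⟨v, hv, fun y hy => ?_⟩
  obtain ⟨x, hx, rfl⟩ := exists_of_image hr hy
  rw [← hue x hx, hv₁ _ (img_mem_imageAlong hPS hx), hg x hx]

/-- The predicate cutting out `D₀`. -/
def overPred : MapPred (Fusion.PPrimeRes.subSystem h.scT) where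
  pred := Over θ N
  congr := fun ⟨u, hu, hue⟩ e => ⟨u, hu, fun x hx => by rw [← e x hx]; exact hue x hx⟩
  conj := fun {P g} hP hg => by
    refine ⟨fun y => img θ g * y * (img θ g)⁻¹, mapFn_conj (h.bar_le hP) (mem_preimageAlong_iff.mp hg).2,
      fun x hx => ?_⟩
    rw [img_conj (FusionFactor.preimageAlong_le _ hg) (FusionFactor.preimageAlong_le _ (hP hx))]
  comp := fun {P Q f g} hf hu' hg hv' hm => by
    obtain ⟨u, hu, hue⟩ := hu'
    obtain ⟨v, hv, hve⟩ := hv'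
    refine ⟨v ∘ u, hu.comp hv fun y hy => ?_, fun x hx => ?_⟩
    · obtain ⟨x, hx, -, rfl⟩ := exists_of_mem_imageAlong hy
      rw [hue x hx]
      exact img_mem_imageAlong (hg.le_S.trans h.scT.1) (hm x hx)
    · show v (u (img θ x)) = img θ (g (f x))
      rw [hue x hx, hve _ (hm x hx)]
  inv := fun {P Q f g} hf hO hr _ hgf =>
    h.mapPred_inv (Fusion.PPrimeRes.mapFn_subSystem.mp hf).1 hf.le_S hO hr hgf

/-- The maps of `F` on subgroups of `T` lying over `N`. -/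
def D₀ : FusionSystem (preimageAlong θ T') := h.overPred.sub

theorem mapFn_D₀ {P : Subgroup Ω} {f : Ω → Ω} :
    MapFn h.D₀ P f ↔ MapFn F P f ∧ P ≤ preimageAlong θ T' ∧ Over θ N P f := by
  rw [D₀, MapPred.mapFn_sub, Fusion.PPrimeRes.mapFn_subSystem, and_assoc]
  rfl

theorem D₀_sub : h.D₀.IsSubsystemOf F := fun P =>
  hom_subset_iff_mapFn.mpr fun _ hf => (h.mapFn_D₀.mp hf).1

/-- Maps of `D₀` extend to `Z`. -/
theorem exists_sup_Z {P : Subgroup Ω} {f : Ω → Ω} (hf : MapFn h.D₀ P f) :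
    ∃ g, MapFn h.D₀ (P ⊔ Z) g ∧ (∀ x ∈ P, g x = f x) ∧ ∀ z ∈ Z, g z = z := by
  obtain ⟨hfF, hPT, u, hu, hue⟩ := h.mapFn_D₀.mp hf
  have hPS := hfF.le_S
  obtain ⟨g, hg, hgP, hgZ⟩ := mapFn_central h.central hfF
  refine ⟨g, h.mapFn_D₀.mpr ⟨hg, sup_le hPT (h.Z_le_pre _), u, (h.bar_sup_Z hPS).symm ▸ hu, fun x hx => ?_⟩,
    hgP, hgZ⟩
  obtain ⟨a, ha, -, e⟩ := h.exists_split hPS hx
  rw [← e, hue a ha, ← hgP a ha]
  exact h.img_congr hg (Subgroup.mem_sup_left ha) hx e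

/-- Maps of `N` lift. -/
theorem exists_lift {Q : Subgroup Ω'} {u : Ω' → Ω'} (hu : MapFn N Q u) :
    ∃ f, MapFn h.D₀ (preimageAlong θ Q) f ∧ ∀ x ∈ preimageAlong θ Q, img θ (f x) = u (img θ x) := by
  have hQ : Q ≤ T' := hu.le_S
  obtain ⟨k, hk, hku⟩ := mapFn_factor h.factor (mapFn_of_sub h.normal.1.2.2.1 hu)
  have hkey : ∀ x ∈ preimageAlong θ Q, img θ (k x) = u (img θ x) := fun x hx => by
    obtain ⟨h1, h2⟩ := hku ⟨x, FusionFactor.preimageAlong_le _ hx⟩ hx
    rw [img_eq (FusionFactor.preimageAlong_le _ hx), h2, img_eq h1]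
  exact ⟨k, h.mapFn_D₀.mpr ⟨hk, FusionSolvable.preimageAlong_mono hQ, u,
    (h.bar_pre hQ).symm ▸ hu, fun x hx => (hkey x hx).symm⟩, hkey⟩

omit [Fact p.Prime] in
theorem card_eq {P : Subgroup Ω} (hP : P ≤ S) (hZ : Z ≤ P) :
    Nat.card P = Nat.card Z * Nat.card (imageAlong θ P) := by
  let f : P →* Ω' := θ.comp (Subgroup.inclusion hP)
  have hr : f.range = imageAlong θ P := by
    ext y
    exact ⟨fun ⟨x, hx⟩ => ⟨Subgroup.inclusion hP x, x.2, hx⟩, fun ⟨s, hs, e⟩ => ⟨⟨s, hs⟩, e⟩⟩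
  have hk : Nat.card f.ker = Nat.card Z := Nat.card_congr
    ⟨fun x => ⟨((x : P) : Ω), (h.factor.2.1 _).mp x.2⟩,
      fun z => ⟨⟨z, hZ z.2⟩, (h.factor.2.1 ⟨z, h.Z_le z.2⟩).mpr z.2⟩, fun _ => rfl, fun _ => rfl⟩
  rw [← hr, ← hk, ← Subgroup.index_ker f, Subgroup.card_mul_index]

omit [Fact p.Prime] in
theorem card_bar_le {A B : Subgroup Ω} (hA : A ≤ S) (hZA : Z ≤ A) (hB : B ≤ S) (hZB : Z ≤ B)
    (hc : Nat.card A ≤ Nat.card B) : Nat.card (imageAlong θ A) ≤ Nat.card (imageAlong θ B) := by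
  rw [h.card_eq hA hZA, h.card_eq hB hZB] at hc
  have := finite_of_le h.Z_le
  exact Nat.le_of_mul_le_mul_left hc Nat.card_pos

theorem bar_normalizer {P : Subgroup Ω} (hPT : P ≤ preimageAlong θ T') (hZ : Z ≤ P) :
    imageAlong θ (normalizerIn (preimageAlong θ T') P) = normalizerIn T' (imageAlong θ P) := by
  have hPS : P ≤ S := hPT.trans h.scT.1
  have := finite_of_le hPS
  have := h.finite_T'
  have := finite_of_le (h.bar_le hPT)
  ext y
  constructor
  · intro hy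
    obtain ⟨t, ⟨htT, htN⟩, htS, rfl⟩ := exists_of_mem_imageAlong hy
    refine ⟨h.bar_le le_rfl (img_mem_imageAlong h.scT.1 htT), mem_normalizer_of_forall fun z hz => ?_⟩
    obtain ⟨x, hx, hxS, rfl⟩ := exists_of_mem_imageAlong hz
    rw [← img_conj htS hxS]
    exact img_mem_imageAlong hPS (conj_mem_of_normalizer htN hx)
  · rintro ⟨hyT, hyN⟩
    obtain ⟨t, ht, rfl⟩ := h.exists_img hyT
    have htS := h.scT.1 ht
    refine img_mem_imageAlong (normalizerIn_le.trans h.scT.1) ⟨ht, mem_normalizer_of_forall fun x hx => ?_⟩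
    rw [← h.pre_bar hPS hZ, mem_preimageAlong_iff, img_conj htS (hPS hx)]
    exact ⟨S.mul_mem (S.mul_mem htS (hPS hx)) (S.inv_mem htS),
      conj_mem_of_normalizer hyN (img_mem_imageAlong hPS hx)⟩

theorem bar_image {P R : Subgroup Ω} {f : Ω → Ω} (hf : MapFn F P f) (hr : f '' P = (R : Set Ω))
    {u : Ω' → Ω'} (hu : ∀ x ∈ P, u (img θ x) = img θ (f x)) :
    u '' (imageAlong θ P) = (imageAlong θ R : Set Ω') := by
  have hRS : R ≤ S := fun y hy => by
    obtain ⟨x, hx, rfl⟩ := exists_of_image hr hy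
    exact hf.mem_S hx
  ext y
  constructor
  · rintro ⟨_, hz, rfl⟩
    obtain ⟨x, hx, -, rfl⟩ := exists_of_mem_imageAlong hz
    rw [hu x hx]
    exact img_mem_imageAlong hRS (mem_of_image hr hx)
  · intro hy
    obtain ⟨_, hx', -, rfl⟩ := exists_of_mem_imageAlong hy
    obtain ⟨x, hx, rfl⟩ := exists_of_image hr hx'
    exact ⟨_, img_mem_imageAlong hf.le_S hx, hu x hx⟩

/-- The image of a map onto a preimage. -/
theorem image_pre {P : Subgroup Ω} {f : Ω → Ω} (hf : MapFn F P f) (hZ : Z ≤ P)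
    {u : Ω' → Ω'} (hu : ∀ x ∈ P, u (img θ x) = img θ (f x)) {R' : Subgroup Ω'}
    (hr : u '' (imageAlong θ P) = (R' : Set Ω')) : f '' P = (preimageAlong θ R' : Set Ω) := by
  obtain ⟨R, hRS, hR⟩ := hf.exists_image
  have hZR : Z ≤ R := fun z hz => by rw [← h.fix hf hz (hZ hz)]; exact mem_of_image hR (hZ hz)
  have he : imageAlong θ R = R' := SetLike.coe_injective (by rw [← h.bar_image hf hR hu, hr])
  rw [← he, h.pre_bar hRS hZR, hR]

/-- Automorphisms of `P` acting trivially on the image. -/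
theorem triv_comm {P : Subgroup Ω} (hP : P ≤ S) {a b : MulAut P}
    (ha : a ∈ F.autGroup P ⊓ trivImg θ P) (hb : b ∈ F.autGroup P ⊓ trivImg θ P) : a * b = b * a := by
  have key : ∀ {a b : MulAut P}, a ∈ F.autGroup P ⊓ trivImg θ P → b ∈ F.autGroup P ⊓ trivImg θ P →
      ∀ x : P, ((a (b x) : P) : Ω) = (x : Ω) * (((x : Ω)⁻¹ * a x) * ((x : Ω)⁻¹ * b x)) := by
    intro a b ha hb x
    obtain ⟨f, hf, -, hfe⟩ := exists_mapFn_of_aut hP ha.1
    have hz : (x : Ω)⁻¹ * (b x : P) ∈ Z := (h.img_eq_img (hP x.2) (hP (b x).2)).mp (hb.2 x).symm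
    rw [← hfe, ← hfe, show ((b x : P) : Ω) = (x : Ω) * ((x : Ω)⁻¹ * b x) by group,
      hf.map_mul x.2 (P.mul_mem (P.inv_mem x.2) (b x).2), h.fix hf hz (P.mul_mem (P.inv_mem x.2) (b x).2)]
    group
  refine MulEquiv.ext fun x => Subtype.ext ?_
  show ((a (b x) : P) : Ω) = ((b (a x) : P) : Ω)
  rw [key ha hb x, key hb ha x]
  congr 1
  exact h.Z_comm ((h.img_eq_img (hP x.2) (hP (a x).2)).mp (ha.2 x).symm)
    (S.mul_mem (S.inv_mem (hP x.2)) (hP (b x).2))

theorem triv_conj {P : Subgroup Ω} (hP : P ≤ S) {a b : MulAut P} (ha : a ∈ F.autGroup P ⊓ trivImg θ P)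
    (hb : b ∈ F.autGroup P) : b * a * b⁻¹ ∈ F.autGroup P ⊓ trivImg θ P := by
  refine ⟨Subgroup.mul_mem _ (Subgroup.mul_mem _ hb ha.1) (Subgroup.inv_mem _ hb), fun x => ?_⟩
  obtain ⟨f, hf, -, hfe⟩ := exists_mapFn_of_aut hP hb
  rw [MulAut.mul_apply, MulAut.mul_apply, ← hfe,
    h.img_congr hf (a _).2 (b⁻¹ x).2 (ha.2 _), hfe, MulAut.apply_inv_self]

theorem triv_isPGroup {P : Subgroup Ω} (hP : P ≤ S) :
    IsPGroup p ↥(F.autGroup P ⊓ trivImg θ P) := by
  rintro ⟨a, haF, ha⟩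
  have := finite_of_le hP
  obtain ⟨f, hf, -, hfe⟩ := exists_mapFn_of_aut hP haF
  obtain ⟨k, hk⟩ := exists_pow_eq_one_of_stabilizes (h.pgroup.to_le hP) (n := 1)
    (fun i => if i = 0 then Z.subgroupOf P else ⊤)
    (fun i hi => by obtain rfl : i = 0 := (by omega); simp) (by simp) (α := a)
    ⟨0, fun x hx => by
      rw [pow_zero, pow_one]
      exact Subtype.ext ((hfe x).symm.trans (h.fix hf (by simpa [Subgroup.mem_subgroupOf] using hx) x.2))⟩
    fun i hi x _ => by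
      obtain rfl : i = 0 := by omega
      rw [if_pos rfl, Subgroup.mem_subgroupOf, Subgroup.coe_mul, Subgroup.coe_inv]
      exact (h.img_eq_img (hP x.2) (hP (a x).2)).mp (ha x).symm
  exact ⟨k, Subtype.ext hk⟩

/-- At a fully automized subgroup they are induced by `S`. -/
theorem triv_le_autInducedBy {P : Subgroup Ω} (hP : F.IsFullyAutomized p P) :
    F.autGroup P ⊓ trivImg θ P ≤ autInducedBy S P := by
  obtain ⟨hPS, R, hR⟩ := hP
  have := finite_mulAut hPS
  intro a ha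
  have hKn : ((F.autGroup P ⊓ trivImg θ P).subgroupOf (F.autGroup P)).Normal :=
    ⟨fun b hb c => h.triv_conj hPS hb c.2⟩
  exact hR.le ((PCore.pCore_le_sylow R) (PCore.le_pCore hKn (h.triv_isPGroup hPS).comap_subtype
    (show (⟨a, ha.1⟩ : F.autGroup P) ∈ _ from ha)))

theorem exists_down {P : Subgroup Ω} {a : MulAut P} (ha : a ∈ h.D₀.autGroup P)
    (hP : P ≤ preimageAlong θ T') :
    ∃ b ∈ N.autGroup (imageAlong θ P), Down θ a b := by
  obtain ⟨f, hf, hfr, hfe⟩ := exists_mapFn_of_aut hP ha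
  obtain ⟨hfF, -, u, hu, hue⟩ := h.mapFn_D₀.mp hf
  obtain ⟨b, hb, hbe⟩ := hu.exists_aut (h.bar_image hfF hfr hue)
  exact ⟨b, hb, fun x hx => (hbe _).trans ((hue x x.2).trans (congrArg _ (hfe x)))⟩

/-- The map induced on the image. -/
noncomputable def pi {P : Subgroup Ω} (hP : P ≤ preimageAlong θ T') :
    h.D₀.autGroup P →* MulAut (imageAlong θ P) :=
  MonoidHom.mk' (fun a => (h.exists_down a.2 hP).choose) fun a b =>
    down_unique (hP.trans h.scT.1) (h.exists_down (a * b).2 hP).choose_spec.2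
      (down_mul (hP.trans h.scT.1) (h.exists_down a.2 hP).choose_spec.2 (h.exists_down b.2 hP).choose_spec.2)

theorem pi_mem {P : Subgroup Ω} (hP : P ≤ preimageAlong θ T') (a : h.D₀.autGroup P) :
    h.pi hP a ∈ N.autGroup (imageAlong θ P) := (h.exists_down a.2 hP).choose_spec.1

theorem pi_down {P : Subgroup Ω} (hP : P ≤ preimageAlong θ T') (a : h.D₀.autGroup P) :
    Down θ (a : MulAut P) (h.pi hP a) := (h.exists_down a.2 hP).choose_spec.2

theorem pi_eq_one_iff {P : Subgroup Ω} (hP : P ≤ preimageAlong θ T') (a : h.D₀.autGroup P) :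
    h.pi hP a = 1 ↔ (a : MulAut P) ∈ trivImg θ P := by
  have hPS := hP.trans h.scT.1
  constructor
  · intro e x
    have h1 := h.pi_down hP a x (img_mem_imageAlong hPS x.2)
    rw [e] at h1
    exact h1.symm
  · intro e
    refine down_unique hPS (h.pi_down hP a) fun x hx => ?_
    exact (e x).symm

theorem autGroup_D₀_le {P : Subgroup Ω} (hP : P ≤ preimageAlong θ T') :
    h.D₀.autGroup P ≤ F.autGroup P :=
  Fusion.PPrimeRes.autGroup_le_of_sub h.scT.1 h.D₀_sub hP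

theorem triv_le_D₀ {P : Subgroup Ω} (hP : P ≤ preimageAlong θ T') :
    F.autGroup P ⊓ trivImg θ P ≤ h.D₀.autGroup P := by
  rintro a ⟨haF, ha⟩
  obtain ⟨f, hf, -, hfe⟩ := exists_mapFn_of_aut (hP.trans h.scT.1) haF
  refine (mem_autGroup_iff_mapFn hP).mpr ⟨f, h.mapFn_D₀.mpr ⟨hf, hP, id, mapFn_id (h.bar_le hP),
    fun x hx => ?_⟩, hfe⟩
  rw [hfe ⟨x, hx⟩]
  exact (ha ⟨x, hx⟩).symm

theorem exists_pi_eq {P : Subgroup Ω} (hP : P ≤ preimageAlong θ T') (hZ : Z ≤ P)
    {b : MulAut (imageAlong θ P)} (hb : b ∈ N.autGroup (imageAlong θ P)) :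
    ∃ a : h.D₀.autGroup P, h.pi hP a = b := by
  obtain ⟨u, hu, hur, hue⟩ := exists_mapFn_of_aut (h.bar_le hP) hb
  obtain ⟨f, hf, hfu⟩ := h.exists_lift hu
  rw [h.pre_bar (hP.trans h.scT.1) hZ] at hf hfu
  have hfr := h.image_pre (h.mapFn_D₀.mp hf).1 hZ (fun x hx => (hfu x hx).symm) hur
  rw [h.pre_bar (hP.trans h.scT.1) hZ] at hfr
  obtain ⟨a, ha, hae⟩ := hf.exists_aut hfr
  refine ⟨⟨a, ha⟩, down_unique (hP.trans h.scT.1) (h.pi_down hP _) fun x hx => ?_⟩
  rw [hae, hfu x x.2, ← hue]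

end LiftSetup

end CfsgLib.FusionLayer
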