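import Cfsg.Agent.Lib.FusionLayer.LiftBase
import Cfsg.Agent.Lib.FusionLayer.GroupCut

/-!
# The kernel of the map to the factor system is central modulo inner automorphisms

For `P ≤ T` lying over an `N`-centric subgroup, the automorphisms of `P` over `N` commute modulo
`Inn P` with those acting trivially on the image.
-/

set_option autoImplicit false

namespace CfsgLib.FusionLayer

open Cfsg Cfsg.FusionSystem CfsgLib.Fusion CfsgLib.FusionNormal CfsgLib.FusionTransport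

variable {Ω Ω' : Type*} [Group Ω] [Group Ω'] {S : Subgroup Ω}

/-- `b` restricts to `a`. -/
def Restr {P R : Subgroup Ω} (hPR : P ≤ R) (b : MulAut R) (a : MulAut P) : Prop :=
  ∀ x : P, ((b ⟨x, hPR x.2⟩ : R) : Ω) = ((a x : P) : Ω)

section restr

variable {P R : Subgroup Ω} {hPR : P ≤ R} {a a' : MulAut P} {b b' : MulAut R}

theorem Restr.mul (h : Restr hPR b a) (h' : Restr hPR b' a') : Restr hPR (b * b') (a * a') := fun x => by
  rw [MulAut.mul_apply, MulAut.mul_apply, ← h]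
  exact congrArg (fun y => ((b y : R) : Ω)) (Subtype.ext (h' x))

theorem Restr.inv (h : Restr hPR b a) : Restr hPR b⁻¹ a⁻¹ := fun x => by
  have h1 := h (a⁻¹ x)
  rw [MulAut.apply_inv_self] at h1
  rw [show (⟨x, hPR x.2⟩ : R) = b ⟨((a⁻¹ x : P) : Ω), hPR (a⁻¹ x).2⟩ from Subtype.ext h1.symm,
    MulAut.inv_apply_self]

theorem Restr.unique (h : Restr hPR b a) (h' : Restr hPR b a') : a = a' :=
  MulEquiv.ext fun x => Subtype.ext ((h x).symm.trans (h' x))

theorem Restr.pow (h : Restr hPR b a) (n : ℕ) : Restr hPR (b ^ n) (a ^ n) := by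
  induction n with
  | zero => intro x; rfl
  | succ n ih => rw [pow_succ, pow_succ]; exact ih.mul h

theorem congr_inn {e : P ≃* R} (ha : a ∈ Inn P) : MulAut.congr e a ∈ Inn R := by
  obtain ⟨z, hz⟩ := mem_inn.mp ha
  refine mem_inn.mpr ⟨e z, fun y => ?_⟩
  obtain ⟨x, rfl⟩ := e.surjective y
  simp [MulAut.congr, hz]

end restr

/-- A subgroup lying over an `N`-centric subgroup. -/
def LiftCentric {T' : Subgroup Ω'} (θ : S →* Ω') (Z : Subgroup Ω) (N : FusionSystem T')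
    (P : Subgroup Ω) : Prop :=
  P ≤ preimageAlong θ T' ∧ Z ≤ P ∧ N.IsCentric (imageAlong θ P)

variable {F : FusionSystem S} {θ : S →* Ω'} {Z : Subgroup Ω} {S' : Subgroup Ω'} {E : FusionSystem S'}
  {T' : Subgroup Ω'} {N : FusionSystem T'} {p : ℕ}

namespace LiftSetup

variable [Finite S] [Fact p.Prime] (h : LiftSetup p F θ Z E N)
include h

theorem centric_of_le {P R : Subgroup Ω} (hP : LiftCentric θ Z N P) (hPR : P ≤ R)
    (hR : R ≤ preimageAlong θ T') : LiftCentric θ Z N R :=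
  ⟨hR, hP.2.1.trans hPR, IsCentric.of_le hP.2.2 (FusionSolvable.imageAlong_mono hPR) (h.bar_le hR)⟩

theorem mem_of_centralizes {P : Subgroup Ω} (hP : LiftCentric θ Z N P) {t : Ω}
    (ht : t ∈ preimageAlong θ T') (hc : ∀ x ∈ P, img θ (t * x * t⁻¹) = img θ x) : t ∈ P := by
  have htS := h.scT.1 ht
  have hPS := hP.1.trans h.scT.1
  have h1 : img θ t ∈ centralizerIn T' (imageAlong θ P) := by
    refine Fusion.mem_centralizerIn'.mpr ⟨h.bar_le le_rfl (img_mem_imageAlong h.scT.1 ht), fun y => ?_⟩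
    obtain ⟨x, hx, hxS, hxy⟩ := exists_of_mem_imageAlong y.2
    rw [← hxy, ← img_conj htS hxS]
    exact hc x hx
  rw [← h.pre_bar hPS hP.2.1, mem_preimageAlong_iff]
  exact ⟨htS, IsCentric.centralizerIn_le' hP.2.2 h1⟩

theorem centralizer_le {P : Subgroup Ω} (hP : LiftCentric θ Z N P) :
    centralizerIn (preimageAlong θ T') P ≤ P := fun t ht =>
  h.mem_of_centralizes hP ht.1 fun x hx => by
    rw [(Fusion.mem_centralizerIn'.mp ht).2 ⟨x, hx⟩]

theorem centric_map {P R : Subgroup Ω} (hP : LiftCentric θ Z N P) {f : Ω → Ω} (hf : MapFn F P f)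
    (hr : f '' P = (R : Set Ω)) : LiftCentric θ Z N R := by
  refine ⟨fun y hy => ?_, fun z hz => ?_, ?_⟩
  · obtain ⟨x, hx, rfl⟩ := exists_of_image hr hy
    exact Fusion.PPrimeRes.map_mem_of_sc h.scT hf hx (hP.1 hx)
  · rw [← h.fix hf hz (hP.2.1 hz)]
    exact mem_of_image hr (hP.2.1 hz)
  · obtain ⟨v, hv, hve⟩ := mapFn_induce_any h.pgroup h.sat h.scZ h.factor hf
    have hve' : ∀ x ∈ P, v (img θ x) = img θ (f x) := fun x hx => by
      obtain ⟨h1, h2⟩ := hve ⟨x, hf.le_S hx⟩ hx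
      rw [img_eq (hf.le_S hx), img_eq h1]; exact h2
    have hvr := h.bar_image hf hr hve'
    obtain ⟨a, n, ha, har, hn, hne⟩ := mapFn_frattini h.normal.1.2.2 (h.bar_le hP.1) hv
    obtain ⟨R₀, hR₀, hR₀i⟩ := hn.exists_image
    have hR₀c : N.IsCentric R₀ :=
      ⟨hR₀, fun Q hQ => hP.2.2.2 Q (Fusion.isConj_trans (hn.isConj hR₀i) hQ)⟩
    refine Fusion.PPrimeRes.centric_transport h.normal.1.2.2 ha har hR₀c ?_
    rw [← hvr, ← hR₀i, Set.image_image]
    exact Set.image_congr fun y hy => (hne y hy).symm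

theorem congr_D₀ {P R : Subgroup Ω} (hP : P ≤ preimageAlong θ T') {φ : P →* Ω} (hφ : φ ∈ F.Hom P)
    {e : P ≃* R} (he : ∀ x : P, ((e x : R) : Ω) = φ x) {a : MulAut P} (ha : a ∈ h.D₀.autGroup P) :
    MulAut.congr e a ∈ h.D₀.autGroup R := by
  have hPS := le_S hφ
  have hR : R ≤ preimageAlong θ T' := fun y hy => by
    obtain ⟨x, hx⟩ := e.surjective ⟨y, hy⟩
    have := h.scT.2 P hP φ hφ x
    rw [← he, hx] at this
    exact this
  have haF : MulAut.congr e a ∈ F.autGroup R := autGroup_congr_mem hφ he (h.autGroup_D₀_le hP ha)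
  obtain ⟨g, hg, hge⟩ := mapFn_of_hom hφ
  have hgr : g '' P = (R : Set Ω) := by
    ext y
    constructor
    · rintro ⟨x, hx, rfl⟩
      rw [← hge ⟨x, hx⟩, ← he]; exact (e _).2
    · intro hy
      refine ⟨((e.symm ⟨y, hy⟩ : P) : Ω), (e.symm _).2, ?_⟩
      rw [← hge, ← he, MulEquiv.apply_symm_apply]
  obtain ⟨v, hv, hve⟩ := mapFn_induce_any h.pgroup h.sat h.scZ h.factor hg
  have hve' : ∀ x ∈ P, v (img θ x) = img θ (g x) := fun x hx => by
    obtain ⟨h1, h2⟩ := hve ⟨x, hPS hx⟩ hx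
    rw [img_eq (hPS hx), img_eq h1]; exact h2
  have hvr := h.bar_image hg hgr hve'
  obtain ⟨b, hb, hbd⟩ := h.exists_down ha hP
  obtain ⟨ψ, hψ, hψe⟩ := hv
  obtain ⟨e', he'⟩ := exists_equiv hψ
    (SetLike.coe_injective (by rw [← MapFn.image_eq_range hψe, hvr]) : ψ.range = imageAlong θ R)
  have hb' := Fusion.PPrimeRes.autGroup_congr_of_strong (stronglyInvariant_of_invariant h.normal.1.2.2)
    (h.bar_le hP) (h.bar_le hR) hψ he' hb
  obtain ⟨f, hf, -, hfe⟩ := exists_mapFn_of_aut (hR.trans h.scT.1) haF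
  obtain ⟨u, hu, -, hue⟩ := exists_mapFn_of_aut (h.bar_le hR) hb'
  refine (mem_autGroup_iff_mapFn hR).mpr ⟨f, h.mapFn_D₀.mpr ⟨hf, hR, u, hu, fun y hy => ?_⟩, hfe⟩
  obtain ⟨x, hx⟩ := e.surjective ⟨y, hy⟩
  have hyx : y = g x := by rw [← hge, ← he, hx]
  subst hyx
  have hxm := img_mem_imageAlong (θ := θ) hPS x.2
  have hym := img_mem_imageAlong (θ := θ) (hR.trans h.scT.1) hy
  have e1 : (⟨img θ (g x), hym⟩ : imageAlong θ R) = e' ⟨img θ x, hxm⟩ :=
    Subtype.ext (by show img θ (g x) = _; rw [he', hψe]; exact (hve' x x.2).symm)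
  rw [hue ⟨_, hym⟩, e1, hfe ⟨g x, hy⟩, ← hx]
  simp only [MulAut.congr, MulEquiv.coe_mk, Equiv.coe_fn_mk, MulEquiv.trans_apply,
    MulEquiv.symm_apply_apply]
  rw [he' (b _), hψe, hbd x hxm, hve' _ (a x).2, he (a x), hge]

theorem congr_triv {P R : Subgroup Ω} {φ : P →* Ω} (hφ : φ ∈ F.Hom P) {e : P ≃* R}
    (he : ∀ x : P, ((e x : R) : Ω) = φ x) {a : MulAut P} (ha : a ∈ F.autGroup P ⊓ trivImg θ P) :
    MulAut.congr e a ∈ F.autGroup R ⊓ trivImg θ R := by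
  refine ⟨autGroup_congr_mem hφ he ha.1, fun y => ?_⟩
  obtain ⟨x, rfl⟩ := e.surjective y
  obtain ⟨g, hg, hge⟩ := mapFn_of_hom hφ
  simp only [MulAut.congr, MulEquiv.coe_mk, Equiv.coe_fn_mk, MulEquiv.trans_apply,
    MulEquiv.symm_apply_apply]
  rw [he, he, hge, hge]
  exact h.img_congr hg (a x).2 x.2 (ha.2 x)

/-- The images of fully normalized subgroups are fully normalized in `N`. -/
theorem bar_fullyNormalized {P : Subgroup Ω} (hP : LiftCentric θ Z N P) (hn : F.IsFullyNormalized P) :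
    N.IsFullyNormalized (imageAlong θ P) := by
  refine ⟨h.bar_le hP.1, fun X' hX' => ?_⟩
  obtain ⟨u, hu, hur⟩ := isConj_iff.mp hX'
  obtain ⟨f, hf, hfu⟩ := h.exists_lift hu
  rw [h.pre_bar (hP.1.trans h.scT.1) hP.2.1] at hf hfu
  have hfF := (h.mapFn_D₀.mp hf).1
  have hfr := h.image_pre hfF hP.2.1 (fun x hx => (hfu x hx).symm) hur
  have hX'T : X' ≤ T' := IsConj.le_right hX'
  have hXT : preimageAlong θ X' ≤ preimageAlong θ T' := FusionSolvable.preimageAlong_mono hX'T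
  have hc := Fusion.PPrimeRes.card_normalizerIn_le h.pgroup h.sat h.scT hn
    (isConj_symm (hfF.isConj hfr)) hXT
  have h1 := h.card_bar_le (normalizerIn_le.trans h.scT.1)
    ((h.Z_le_pre X').trans (le_normalizerIn hXT)) (normalizerIn_le.trans h.scT.1)
    (hP.2.1.trans (le_normalizerIn hP.1)) hc
  rwa [h.bar_normalizer hXT (h.Z_le_pre X'), h.bar_normalizer hP.1 hP.2.1, h.bar_pre hX'T] at h1

theorem pre_normalizer {P : Subgroup Ω} (hP : P ≤ preimageAlong θ T') (hZ : Z ≤ P) :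
    preimageAlong θ (normalizerIn T' (imageAlong θ P)) = normalizerIn (preimageAlong θ T') P := by
  rw [← h.bar_normalizer hP hZ,
    h.pre_bar (normalizerIn_le.trans h.scT.1) (hZ.trans (le_normalizerIn hP))]

/-- The case `P = T`: the extension condition. -/
theorem comm_inn_top : ∀ a ∈ h.D₀.autGroup (preimageAlong θ T'),
    ∀ k ∈ F.autGroup (preimageAlong θ T') ⊓ trivImg θ (preimageAlong θ T'),
      a * k * a⁻¹ * k⁻¹ ∈ Inn (preimageAlong θ T') := by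
  set T := preimageAlong θ T' with hTdef
  intro a ha k hk
  have hTS : T ≤ S := h.scT.1
  have := finite_of_le hTS
  have := h.finite_factor
  have := h.finite_T'
  have hTn : F.IsFullyNormalized T := ⟨hTS, fun R hR => by
    obtain ⟨f, hf, hfr⟩ := isConj_iff.mp hR
    have : R = T := SetLike.coe_injective (hfr.symm.trans (hf.image_eq_of_maps hTS
      (fun x hx => Fusion.PPrimeRes.map_mem_of_sc h.scT hf hx hx) le_rfl))
    rw [this]⟩
  obtain ⟨s, hs, hse⟩ := mem_autInducedBy.mp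
    (h.triv_le_autInducedBy (fullyNormalized_good h.pgroup h.sat hTn).1 hk)
  obtain ⟨f, hf, hfr, hfe⟩ := exists_mapFn_of_aut le_rfl ha
  obtain ⟨hfF, -, u, hu, hue⟩ := h.mapFn_D₀.mp hf
  rw [h.bar_pre le_rfl] at hu
  have hur : u '' T' = (T' : Set Ω') := hu.image_eq_of_maps le_rfl (fun y hy => hu.mem_S hy) le_rfl
  obtain ⟨b, hb, hbr, hbT, hbC⟩ := mapFn_extension h.normal hu hur
  obtain ⟨g, hg, hgb⟩ := mapFn_factor h.factor hb
  have hsC : img θ s ∈ centralizerIn S' T' := by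
    refine Fusion.mem_centralizerIn'.mpr ⟨h.factor.2.2.1 ▸ ⟨⟨s, hs⟩, (img_eq hs).symm⟩, fun y => ?_⟩
    obtain ⟨x, hx, hxy⟩ := h.exists_img y.2
    rw [← hxy, ← img_conj hs (hTS hx), ← hse ⟨x, hx⟩]
    exact hk.2 ⟨x, hx⟩
  have hsD : s ∈ preimageAlong θ (T' ⊔ centralizerIn S' T') :=
    mem_preimageAlong_iff.mpr ⟨hs, Subgroup.mem_sup_right hsC⟩
  have hTD : T ≤ preimageAlong θ (T' ⊔ centralizerIn S' T') :=
    FusionSolvable.preimageAlong_mono le_sup_left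
  have hgT : ∀ x ∈ T, g x ∈ T := fun x hx => Fusion.PPrimeRes.map_mem_of_sc h.scT hg (hTD hx) hx
  obtain ⟨a₁, ha₁, ha₁e⟩ := (hg.mono hTD).exists_aut ((hg.mono hTD).image_eq_of_maps hTS hgT le_rfl)
  have hgimg : ∀ x ∈ preimageAlong θ (T' ⊔ centralizerIn S' T'), img θ (g x) = b (img θ x) :=
    fun x hx => by
      obtain ⟨h1, h2⟩ := hgb ⟨x, FusionFactor.preimageAlong_le _ hx⟩ hx
      rw [img_eq h1, img_eq (FusionFactor.preimageAlong_le _ hx)]; exact h2.symm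
  have hdiff : a₁⁻¹ * a ∈ F.autGroup T ⊓ trivImg θ T := by
    refine ⟨Subgroup.mul_mem _ (Subgroup.inv_mem _ ha₁) (h.autGroup_D₀_le le_rfl ha), fun x => ?_⟩
    obtain ⟨i, hi, -, hie⟩ := exists_mapFn_of_aut hTS (Subgroup.inv_mem _ ha₁)
    have e1 : img θ ((a x : T) : Ω) = img θ ((a₁ x : T) : Ω) := by
      rw [← hfe, ← hue x x.2, ha₁e, hgimg x (hTD x.2),
        hbT _ (h.bar_le le_rfl (img_mem_imageAlong hTS x.2))]
    rw [MulAut.mul_apply, ← hie, h.img_congr hi (a x).2 (a₁ x).2 e1, hie, MulAut.inv_apply_self]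
  have hkc : a * k * a⁻¹ = a₁ * k * a₁⁻¹ := by
    have := h.triv_comm hTS hdiff hk
    calc a * k * a⁻¹ = a₁ * ((a₁⁻¹ * a) * k) * a⁻¹ := by group
      _ = a₁ * (k * (a₁⁻¹ * a)) * a⁻¹ := by rw [this]
      _ = a₁ * k * a₁⁻¹ := by group
  set w := s⁻¹ * g s with hw
  have hgs : g s ∈ S := hg.mem_S hsD
  have hwT : w ∈ T := mem_preimageAlong_iff.mpr ⟨S.mul_mem (S.inv_mem hs) hgs, by
    rw [img_mul (S.inv_mem hs) hgs, img_inv hs, hgimg s hsD]
    exact (hbC _ hsC).1⟩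
  rw [hkc]
  refine mem_inn.mpr ⟨⟨s * w * s⁻¹, h.conj_mem_T hs hwT⟩, fun x => Subtype.ext ?_⟩
  have hconj : ∀ y : T, ((a₁ (k (a₁⁻¹ y)) : T) : Ω) = g s * y * (g s)⁻¹ := fun y => by
    rw [ha₁e, hse, hg.map_conj hsD (hTD (a₁⁻¹ y).2), ← ha₁e, MulAut.apply_inv_self]
  show ((a₁ (k (a₁⁻¹ (k⁻¹ x))) : T) : Ω) = s * w * s⁻¹ * x * (s * w * s⁻¹)⁻¹
  rw [hconj]
  have h1 := hse (k⁻¹ x)
  rw [MulAut.apply_inv_self] at h1
  rw [hw, h1]
  group

/-- Automorphisms over `N` commute modulo inner automorphisms with those trivial on the image. -/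
theorem comm_inn : ∀ P, LiftCentric θ Z N P → ∀ a ∈ h.D₀.autGroup P,
    ∀ k ∈ F.autGroup P ⊓ trivImg θ P, a * k * a⁻¹ * k⁻¹ ∈ Inn P := by
  suffices H : ∀ (m : ℕ) (P : Subgroup Ω), Nat.card (preimageAlong θ T') - Nat.card P < m →
      LiftCentric θ Z N P → ∀ a ∈ h.D₀.autGroup P, ∀ k ∈ F.autGroup P ⊓ trivImg θ P,
        a * k * a⁻¹ * k⁻¹ ∈ Inn P from fun P => H _ P (Nat.lt_succ_self _)
  intro m
  induction m with
  | zero => intro P hm; omega
  | succ m ih =>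
  intro P₀ hm hP₀ a₀ ha₀ k₀ hk₀
  set T := preimageAlong θ T' with hT
  have hTS : T ≤ S := h.scT.1
  -- reduce to a fully normalized subgroup
  obtain ⟨P, hc, hn⟩ := exists_fullyNormalized (F := F) (hP₀.1.trans hTS)
  have hcard : Nat.card P = Nat.card P₀ := IsConj.card_eq hc
  obtain ⟨φ, hφ, hφr⟩ := hc
  obtain ⟨e, he⟩ := exists_equiv hφ hφr
  obtain ⟨φf, hφf, hφfe⟩ := mapFn_of_hom hφ
  have hP : LiftCentric θ Z N P :=
    h.centric_map hP₀ hφf (by rw [MapFn.image_eq_range hφfe, hφr])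
  suffices hred : ∀ a ∈ h.D₀.autGroup P, ∀ k ∈ F.autGroup P ⊓ trivImg θ P,
      a * k * a⁻¹ * k⁻¹ ∈ Inn P by
    have h1 := congr_inn (e := e.symm) (hred _ (h.congr_D₀ hP₀.1 hφ he ha₀) _ (h.congr_triv hφ he hk₀))
    convert h1 using 1
    refine MulEquiv.ext fun x => ?_
    simp [MulAut.congr]
  rw [← hcard] at hm
  clear ha₀ hk₀ hP₀ he hφ hφr hφf hφfe hcard
  have := finite_of_le hTS
  have hPS : P ≤ S := hn.1
  by_cases hPT : P = T
  · subst hPT; exact h.comm_inn_top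
  have := finite_of_le hPS
  have := finite_mulAut hPS
  have := h.finite_factor
  have := h.finite_T'
  have := finite_mulAut (h.bar_le hP.1)
  have hbn := h.bar_fullyNormalized hP hn
  obtain ⟨hFa, -⟩ := fullyNormalized_good h.pgroup h.sat hn
  obtain ⟨hNa, hNr⟩ := fullyNormalized_good h.pgroup_T' h.normal.1.1 hbn
  have hKa := h.triv_le_autInducedBy hFa
  set M := h.D₀.autGroup P with hM
  set K := F.autGroup P ⊓ trivImg θ P with hKdef
  -- the subgroup of the good automorphisms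
  let G : Subgroup M :=
    { carrier := {a | ∀ k ∈ K, (a : MulAut P) * k * (a : MulAut P)⁻¹ * k⁻¹ ∈ Inn P}
      one_mem' := fun k _ => by simp
      mul_mem' := fun {a b} ha hb k hk => by
        have h1 := Subgroup.mul_mem _ ((innNormal P).conj_mem _ (hb k hk) (a : MulAut P)) (ha k hk)
        simpa [mul_assoc] using h1
      inv_mem' := fun {a} ha k hk => by
        have h1 := (innNormal P).conj_mem _ (Subgroup.inv_mem _ (ha k hk)) (a : MulAut P)⁻¹
        simpa [mul_assoc] using h1 }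
  have hGn : G.Normal := ⟨fun a ha b k hk => by
    have hk' : (b : MulAut P)⁻¹ * k * (b : MulAut P) ∈ K := by
      have h2 := h.triv_conj hPS hk (h.autGroup_D₀_le hP.1 (b⁻¹).2)
      rwa [Subgroup.coe_inv, inv_inv] at h2
    have h1 := (innNormal P).conj_mem _ (ha _ hk') (b : MulAut P)
    simpa [mul_assoc] using h1⟩
  have hGK : ∀ a : M, (a : MulAut P) ∈ trivImg θ P → a ∈ G := fun a ha k hk => by
    rw [h.triv_comm hPS ⟨h.autGroup_D₀_le hP.1 a.2, ha⟩ hk]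
    simp
  have hGT : ∀ a : M, (a : MulAut P) ∈ autInducedBy T P → a ∈ G := by
    intro a ha k hk
    obtain ⟨u, hu, hue⟩ := mem_autInducedBy.mp ha
    obtain ⟨s, hs, hse⟩ := mem_autInducedBy.mp (hKa hk)
    have hsn := mem_normalizer_of_aut hse
    have hun := mem_normalizer_of_aut hue
    have hT2 : u * s * u⁻¹ * s⁻¹ ∈ T := by
      have h1 := T.mul_mem hu (h.conj_mem_T hs (T.inv_mem hu))
      simpa [mul_assoc] using h1
    have hcom : ∀ x : P, (((a : MulAut P) * k * (a : MulAut P)⁻¹ * k⁻¹) x : P) =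
        (u * s * u⁻¹ * s⁻¹) * (x : Ω) * (u * s * u⁻¹ * s⁻¹)⁻¹ := fun x => by
      have hi : ∀ {c : MulAut P} {g : Ω}, (∀ y : P, ((c y : P) : Ω) = g * y * g⁻¹) →
          ∀ y : P, ((c⁻¹ y : P) : Ω) = g⁻¹ * y * g := fun {c g} hc y => by
        have h1 := hc (c⁻¹ y)
        rw [MulAut.apply_inv_self] at h1
        rw [h1]; group
      simp only [MulAut.mul_apply]
      rw [hue, hse, hi hue, hi hse]
      group
    have hmem : u * s * u⁻¹ * s⁻¹ ∈ P := h.mem_of_centralizes hP hT2 fun x hx => by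
      rw [← hcom ⟨x, hx⟩]
      have hKk : (a : MulAut P) * k * (a : MulAut P)⁻¹ * k⁻¹ ∈ K :=
        Subgroup.mul_mem _ (h.triv_conj hPS hk (h.autGroup_D₀_le hP.1 a.2)) (Subgroup.inv_mem _ hk)
      exact hKk.2 ⟨x, hx⟩
    exact mem_inn.mpr ⟨⟨_, hmem⟩, fun x => Subtype.ext (hcom x)⟩
  -- a Sylow subgroup
  let π : M →* N.autGroup (imageAlong θ P) := (h.pi hP.1).codRestrict _ (h.pi_mem hP.1)
  have hπs : Function.Surjective π := fun b => by
    obtain ⟨a, ha⟩ := h.exists_pi_eq hP.1 hP.2.1 b.2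
    exact ⟨a, Subtype.ext ha⟩
  have hker : ∀ a : M, π a = 1 ↔ (a : MulAut P) ∈ trivImg θ P := fun a => by
    rw [← h.pi_eq_one_iff hP.1, Subtype.ext_iff]; rfl
  obtain ⟨-, W, hW⟩ := hNa
  have hPN : P ≤ normalizerIn T P := le_normalizerIn hP.1
  have hWlift : ∀ {b : N.autGroup (imageAlong θ P)}, b ∈ (W : Subgroup _) →
      ∃ a : M, (a : MulAut P) ∈ autInducedBy T P ∧ π a = b := by
    intro b hb
    obtain ⟨y, hy, hyb⟩ := mem_autInducedBy.mp (Subgroup.mem_subgroupOf.mp (hW.le hb))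
    obtain ⟨t, ht, rfl⟩ := h.exists_img hy
    have htN : t ∈ normalizerIn T P := by
      rw [← h.pre_normalizer hP.1 hP.2.1, mem_preimageAlong_iff]
      exact ⟨hTS ht, hy, mem_normalizer_of_aut hyb⟩
    obtain ⟨a, ha, hae⟩ := exists_autInducedBy (K := T) ht htN.2
    exact ⟨⟨a, autInducedBy_le_autGroup hP.1 ha⟩, ha,
      Subtype.ext (down_unique hPS (h.pi_down hP.1 _) (down_conj hPS (hTS ht) hae hyb))⟩
  set R := (W : Subgroup _).comap π with hR
  have hRp : IsPGroup p R := W.2.comap_of_ker_isPGroup π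
    (fun a => by
      obtain ⟨k, hk⟩ := h.triv_isPGroup hPS ⟨((a : M) : MulAut P),
        h.autGroup_D₀_le hP.1 (a : M).2, (hker _).mp a.2⟩
      exact ⟨k, Subtype.ext (Subtype.ext (by simpa using congrArg Subtype.val hk))⟩)
  have hRi : ¬ p ∣ R.index := by
    rw [hR, Subgroup.index_comap_of_surjective _ hπs]; exact W.not_dvd_index
  set Rs : Sylow p M := hRp.toSylow hRi with hRs
  have hRG : R ≤ G := by
    intro a ha
    obtain ⟨c, hc, hce⟩ := hWlift ha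
    have h1 : a * c⁻¹ ∈ G := hGK _ ((hker _).mp (by rw [map_mul, map_inv, hce, mul_inv_cancel]))
    simpa using G.mul_mem h1 (hGT c hc)
  have hpel : ∀ (a : M) (i : ℕ), orderOf a = p ^ i → a ∈ G := by
    intro a i ha
    obtain ⟨Q, hQ⟩ := (IsPGroup.of_card (n := i) (by rw [Nat.card_zpowers, ha]) :
      IsPGroup p (Subgroup.zpowers a)).exists_le_sylow
    obtain ⟨g, hg⟩ := MulAction.exists_smul_eq M Rs Q
    have h1 := hQ (Subgroup.mem_zpowers a)
    rw [← hg, Sylow.coe_subgroup_smul] at h1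
    obtain ⟨r, hr, hra⟩ := h1
    rw [← hra]
    exact hGn.conj_mem r (hRG hr) g
  suffices hkey : ∀ a : M, (orderOf a).Coprime p → a ∈ Subgroup.normalizer (R : Set M) → a ∈ G by
    intro a ha k hk
    suffices hall : ∀ b : M, b ∈ G from hall ⟨a, ha⟩ k hk
    intro b
    have hfr : b ∈ Subgroup.normalizer (R : Set M) ⊔ G := by
      have h1 := Sylow.normalizer_sup_eq_top (Rs.subtype (show (Rs : Subgroup M) ≤ G from hRG))
      rw [Sylow.coe_subtype, Subgroup.map_subgroupOf_eq_of_le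
        (show (Rs : Subgroup M) ≤ G from hRG)] at h1
      have h2 : b ∈ Subgroup.normalizer ((Rs : Subgroup M) : Set M) ⊔ G := h1 ▸ Subgroup.mem_top b
      exact h2
    obtain ⟨n₁, hn₁, g₁, hg₁, rfl⟩ := Subgroup.mem_sup_of_normal_right.mp hfr
    refine G.mul_mem ?_ hg₁
    obtain ⟨i, j, ⟨l, hl⟩, hj, hij⟩ := Fusion.PPrimeRes.exists_parts (p := p) n₁
    rw [← hij]
    exact G.mul_mem (hpel _ l hl) (hkey _ hj (Subgroup.pow_mem _ hn₁ j))
  intro a hac haR k hk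
  -- extend to the normalizer
  obtain ⟨u, hu, hur, hue⟩ := exists_mapFn_of_aut (h.bar_le hP.1) (h.pi_mem hP.1 a)
  set N₁ := normalizerIn T P with hN₁
  set Nb := normalizerIn T' (imageAlong θ P) with hNb
  obtain ⟨w, hw, hwe⟩ := hu.exists_extension hNr hur (le_normalizerIn (h.bar_le hP.1)) (le_refl Nb)
    fun g hg => by
      obtain ⟨c, hc, hce⟩ := exists_autInducedBy (K := T') hg.1 hg.2
      have hcW : (⟨c, autInducedBy_le_autGroup (h.bar_le hP.1) hc⟩ : N.autGroup (imageAlong θ P)) ∈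
          (W : Subgroup _) := by rw [hW]; exact hc
      obtain ⟨a', ha'⟩ := hπs ⟨c, autInducedBy_le_autGroup (h.bar_le hP.1) hc⟩
      have h1 : a * a' * a⁻¹ ∈ R :=
        (Subgroup.mem_normalizer_iff.mp haR a').mp (show π a' ∈ (W : Subgroup _) from ha' ▸ hcW)
      change π (a * a' * a⁻¹) ∈ (W : Subgroup _) at h1
      rw [map_mul, map_mul, map_inv, ha', hW] at h1
      obtain ⟨s, hs, hse⟩ := mem_autInducedBy.mp (Subgroup.mem_subgroupOf.mp h1)
      refine ⟨s, hs, fun y hy => ?_⟩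
      have h2 := hse (h.pi hP.1 a ⟨y, hy⟩)
      simp only [Subgroup.coe_mul, Subgroup.coe_inv, MulAut.mul_apply] at h2
      rw [show ((π a : N.autGroup _) : MulAut _) = h.pi hP.1 a from rfl, MulAut.inv_apply_self] at h2
      rw [hue ⟨y, hy⟩, ← h2, hue ⟨_, conj_mem_of_normalizer hg.2 hy⟩]
      congr 2
      exact Subtype.ext (hce ⟨y, hy⟩).symm
  have hNbT : Nb ≤ T' := normalizerIn_le
  have := finite_of_le hNbT
  have hPNb : imageAlong θ P ≤ Nb := le_normalizerIn (h.bar_le hP.1)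
  have hwr : w '' Nb = (Nb : Set Ω') := hw.image_eq_of_maps hNbT
    (fun y hy => hw.mem_normalizerIn hPNb ((Set.image_congr hwe).trans hur) hy hy.2) le_rfl
  obtain ⟨g, hg, hgw⟩ := h.exists_lift hw
  rw [h.pre_normalizer hP.1 hP.2.1] at hg hgw
  have hN₁T : N₁ ≤ T := normalizerIn_le
  have hN₁c : LiftCentric θ Z N N₁ := h.centric_of_le hP hPN hN₁T
  have hgF := (h.mapFn_D₀.mp hg).1
  have hbarN : imageAlong θ N₁ = Nb := h.bar_normalizer hP.1 hP.2.1
  have hgr : g '' N₁ = (N₁ : Set Ω) := by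
    have h1 := h.image_pre hgF hN₁c.2.1 (fun x hx => (hgw x hx).symm) (R' := Nb) (by rw [hbarN]; exact hwr)
    rwa [h.pre_normalizer hP.1 hP.2.1] at h1
  have hgP : g '' P = (P : Set Ω) := by
    have h1 := h.image_pre (hgF.mono hPN) hP.2.1 (fun x hx => (hgw x (hPN hx)).symm)
      (R' := imageAlong θ P) ((Set.image_congr hwe).trans hur)
    rwa [h.pre_bar hPS hP.2.1] at h1
  obtain ⟨A, hA, hAe⟩ := hg.exists_aut hgr
  obtain ⟨a₁, ha₁, ha₁e⟩ := (hg.mono hPN).exists_aut hgP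
  have hAa₁ : Restr hPN A a₁ := fun x => (hAe _).trans (ha₁e x).symm
  have hdiff : a₁⁻¹ * (a : MulAut P) ∈ K := by
    refine ⟨Subgroup.mul_mem _ (Subgroup.inv_mem _ (h.autGroup_D₀_le hP.1 ha₁))
      (h.autGroup_D₀_le hP.1 a.2), fun x => ?_⟩
    obtain ⟨i, hi, -, hie⟩ := exists_mapFn_of_aut hPS (Subgroup.inv_mem _ (h.autGroup_D₀_le hP.1 ha₁))
    have e1 : img θ (((a : MulAut P) x : P) : Ω) = img θ ((a₁ x : P) : Ω) := by
      rw [ha₁e, hgw x (hPN x.2), hwe _ (img_mem_imageAlong hPS x.2),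
        hue ⟨_, img_mem_imageAlong hPS x.2⟩]
      exact (h.pi_down hP.1 a x _).symm
    rw [MulAut.mul_apply, ← hie, h.img_congr hi (Subtype.mem _) (Subtype.mem _) e1, hie,
      MulAut.inv_apply_self]
  have hcong : ∀ k' ∈ K, (a : MulAut P) * k' * (a : MulAut P)⁻¹ = a₁ * k' * a₁⁻¹ := fun k' hk' => by
    have := h.triv_comm hPS hdiff hk'
    calc (a : MulAut P) * k' * (a : MulAut P)⁻¹ = a₁ * ((a₁⁻¹ * a) * k') * (a : MulAut P)⁻¹ := by group
      _ = a₁ * (k' * (a₁⁻¹ * a)) * (a : MulAut P)⁻¹ := by rw [this]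
      _ = a₁ * k' * a₁⁻¹ := by group
  -- conjugation by `s` on the normalizer
  obtain ⟨s, hs, hse⟩ := mem_autInducedBy.mp (hKa hk)
  have hsN₁ : s ∈ Subgroup.normalizer (N₁ : Set Ω) := by
    have := finite_of_le (hN₁T.trans hTS)
    refine mem_normalizer_of_forall fun x hx => ⟨h.conj_mem_T hs hx.1, ?_⟩
    have hsn := mem_normalizer_of_aut hse
    exact Subgroup.mul_mem _ (Subgroup.mul_mem _ hsn hx.2) (Subgroup.inv_mem _ hsn)
  obtain ⟨cs, hcs, hcse⟩ := exists_autInducedBy (K := S) hs hsN₁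
  have hN₁S : N₁ ≤ S := hN₁T.trans hTS
  have hcsF : cs ∈ F.autGroup N₁ := autInducedBy_le_autGroup hN₁S hcs
  have hcsk : Restr hPN cs k := fun x => (hcse _).trans (hse x).symm
  obtain ⟨φc, hφc, -, hφce⟩ := exists_map_of_mem_autGroup hN₁S hcsF
  have hγ₂ : cs * A⁻¹ * cs⁻¹ ∈ h.D₀.autGroup N₁ := by
    have h1 := h.congr_D₀ hN₁T hφc (e := cs) (fun x => (hφce x).symm) (Subgroup.inv_mem _ hA)
    have e1 : MulAut.congr cs A⁻¹ = cs * A⁻¹ * cs⁻¹ := MulEquiv.ext fun x => rfl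
    rwa [e1] at h1
  set γ := A * cs * A⁻¹ * cs⁻¹ with hγdef
  have hγD : γ ∈ h.D₀.autGroup N₁ := by
    have h1 := Subgroup.mul_mem _ hA hγ₂
    simpa [hγdef, mul_assoc] using h1
  have hγP : Restr hPN γ (a₁ * k * a₁⁻¹ * k⁻¹) := ((hAa₁.mul hcsk).mul hAa₁.inv).mul hcsk.inv
  have hδK : ∀ k' ∈ K, a₁ * k' * a₁⁻¹ * k'⁻¹ ∈ K := fun k' hk' =>
    Subgroup.mul_mem _ (h.triv_conj hPS hk' (h.autGroup_D₀_le hP.1 ha₁)) (Subgroup.inv_mem _ hk')
  -- on the image it is conjugation by an element of `P`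
  obtain ⟨γb, hγb, hγbd⟩ := h.exists_down hγD hN₁T
  obtain ⟨v, hv, hvr, hve⟩ := exists_mapFn_of_aut (h.bar_le hN₁T) hγb
  obtain ⟨zb, hzb, hzv⟩ := exists_conj_of_fixed h.pgroup_T' h.normal.1.1 hP.2.2 hPNb le_rfl
    (show MapFn N (normalizerIn T' (imageAlong θ P)) v by rw [← hNb, ← hbarN]; exact hv) fun y hy => by
      obtain ⟨x, hx, -, rfl⟩ := exists_of_mem_imageAlong hy
      have hm := img_mem_imageAlong (θ := θ) hN₁S (hPN hx)
      rw [hve ⟨_, hm⟩, hγbd ⟨x, hPN hx⟩ hm, hγP ⟨x, hx⟩]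
      exact (hδK k hk).2 ⟨x, hx⟩
  obtain ⟨z, hz, hzS, rfl⟩ := exists_of_mem_imageAlong hzb
  obtain ⟨cz, hcz, hcze⟩ := exists_autInducedBy (K := N₁) (hPN hz) (Subgroup.le_normalizer (hPN hz))
  obtain ⟨cp, hcp, hcpe⟩ := exists_autInducedBy (K := P) hz (Subgroup.le_normalizer hz)
  have hcpI : cp ∈ Inn P := inn_eq_autInducedBy (P := P) ▸ hcp
  have hczcp : Restr hPN cz cp := fun x => (hcze _).trans (hcpe x).symm
  have hczF : cz ∈ F.autGroup N₁ := autInducedBy_le_autGroup hN₁S (autInducedBy_mono hN₁S _ hcz)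
  have hκ' : cz⁻¹ * γ ∈ F.autGroup N₁ ⊓ trivImg θ N₁ := by
    refine ⟨Subgroup.mul_mem _ (Subgroup.inv_mem _ hczF) (h.autGroup_D₀_le hN₁T hγD), fun x => ?_⟩
    obtain ⟨i, hi, -, hie⟩ := exists_mapFn_of_aut hN₁S (Subgroup.inv_mem _ hczF)
    have hm := img_mem_imageAlong (θ := θ) hN₁S x.2
    have e1 : img θ ((γ x : N₁) : Ω) = img θ ((cz x : N₁) : Ω) := by
      rw [hcze, img_conj hzS (hN₁S x.2), ← hzv _ (hbarN ▸ hm), hve ⟨_, hm⟩]
      exact (hγbd x hm).symm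
    rw [MulAut.mul_apply, ← hie, h.img_congr hi (Subtype.mem _) (Subtype.mem _) e1, hie,
      MulAut.inv_apply_self]
  set k' := cp⁻¹ * (a₁ * k * a₁⁻¹ * k⁻¹) with hk'def
  have hκk' : Restr hPN (cz⁻¹ * γ) k' := hczcp.inv.mul hγP
  have hk'K : k' ∈ K := by
    refine ⟨Subgroup.mul_mem _ (Subgroup.inv_mem _ (inn_le_autGroup hPS hcpI)) (hδK k hk).1, fun x => ?_⟩
    rw [← hκk' x]
    exact hκ'.2 _
  have hlt : Nat.card P < Nat.card N₁ := card_lt_card hN₁S
    (Fusion.lt_normalizerIn h.pgroup_T le_rfl (lt_of_le_of_ne hP.1 hPT))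
  have hle : Nat.card N₁ ≤ Nat.card T := Subgroup.card_le_of_le hN₁T
  have hTc : Nat.card T = Nat.card (preimageAlong θ T') := rfl
  have hdd1 : a₁ * k' * a₁⁻¹ * k'⁻¹ ∈ Inn P := by
    have h1 := ih N₁ (by omega) hN₁c A hA _ hκ'
    obtain ⟨w', hw'⟩ := mem_inn.mp h1
    have h2 : Restr hPN (A * (cz⁻¹ * γ) * A⁻¹ * (cz⁻¹ * γ)⁻¹) (a₁ * k' * a₁⁻¹ * k'⁻¹) :=
      ((hAa₁.mul hκk').mul hAa₁.inv).mul hκk'.inv
    have h3 : ∀ x : P, ((a₁ * k' * a₁⁻¹ * k'⁻¹) x : Ω) = (w' : Ω) * x * (w' : Ω)⁻¹ := fun x => by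
      rw [← h2 x, hw']; rfl
    have hwP : (w' : Ω) ∈ P := h.mem_of_centralizes hP (hN₁T w'.2) fun x hx => by
      rw [← h3 ⟨x, hx⟩]; exact (hδK k' hk'K).2 ⟨x, hx⟩
    exact mem_inn.mpr ⟨⟨w', hwP⟩, fun x => Subtype.ext (h3 x)⟩
  obtain ⟨l, hl⟩ := h.triv_isPGroup hPS ⟨_, hδK k hk⟩
  have hl' : (a₁ * k * a₁⁻¹ * k⁻¹) ^ p ^ l = 1 := congrArg Subtype.val hl
  have := innNormal P
  refine mem_of_double_commutator (Inn P) (p := p) (a := (a : MulAut P)) (c := k) ?_ rfl ?_ (k := l) ?_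
  · rw [Subgroup.orderOf_coe]; exact hac
  · rw [hcong k hk]
    have e1 : a₁ * k * a₁⁻¹ * k⁻¹ = cp * k' := by rw [hk'def, mul_inv_cancel_left]
    rw [e1]
    have h1 : (a : MulAut P) * (cp * k') * (a : MulAut P)⁻¹ * (cp * k')⁻¹ =
        ((a : MulAut P) * cp * (a : MulAut P)⁻¹) *
          ((a : MulAut P) * k' * (a : MulAut P)⁻¹ * k'⁻¹) * cp⁻¹ := by group
    rw [h1, hcong k' hk'K]
    exact Subgroup.mul_mem _ (Subgroup.mul_mem _ ((innNormal P).conj_mem _ hcpI _) hdd1)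
      (Subgroup.inv_mem _ hcpI)
  · rw [hcong k hk, hl']
    exact Subgroup.one_mem _

end LiftSetup

end CfsgLib.FusionLayer
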