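import Cfsg.Agent.Lib.FusionLayer.LiftPush

/-!
# The lifted system meets the kernel in inner automorphisms

For `P` over an `N`-centric subgroup the automorphisms of `P` in the lifted system that act trivially
on the image are inner.
-/

set_option autoImplicit false
set_option maxHeartbeats 400000

namespace CfsgLib.FusionLayer

open Cfsg Cfsg.FusionSystem CfsgLib.Fusion CfsgLib.FusionNormal CfsgLib.FusionTransport

variable {Ω Ω' : Type*} [Group Ω] [Group Ω'] {S : Subgroup Ω}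
variable {F : FusionSystem S} {θ : S →* Ω'} {Z : Subgroup Ω} {S' : Subgroup Ω'} {E : FusionSystem S'}
  {T' : Subgroup Ω'} {N : FusionSystem T'} {p : ℕ}

/-- `f`, read on `Q` through `h` at the source and `h'` at the target, agrees with an element of `A`. -/
def Rel {Q : Subgroup Ω} (A : Subgroup (MulAut Q)) (R : Subgroup Ω) (f h h' : Ω → Ω) : Prop :=
  ∃ a ∈ A, ∀ x ∈ R, ∀ y : Q, (y : Ω) = h x → ((a y : Q) : Ω) = h' (f x)

theorem Rel.congr {Q : Subgroup Ω} {A : Subgroup (MulAut Q)} {R : Subgroup Ω} {f g h h' : Ω → Ω}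
    (hf : Rel A R f h h') (e : ∀ x ∈ R, f x = g x) : Rel A R g h h' := by
  obtain ⟨a, ha, hae⟩ := hf
  exact ⟨a, ha, fun x hx y hy => by rw [← e x hx]; exact hae x hx y hy⟩

theorem Rel.comp {Q : Subgroup Ω} {A : Subgroup (MulAut Q)} {R R' : Subgroup Ω} {f g h h₁ h₂ : Ω → Ω}
    (hf : Rel A R f h h₁) (hg : Rel A R' g h₁ h₂) (hm : ∀ x ∈ R, f x ∈ R') :
    Rel A R (g ∘ f) h h₂ := by
  obtain ⟨a, ha, hae⟩ := hf
  obtain ⟨b, hb, hbe⟩ := hg
  exact ⟨b * a, A.mul_mem hb ha, fun x hx y hy => by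
    rw [MulAut.mul_apply]; exact hbe _ (hm x hx) _ (hae x hx y hy)⟩

theorem Rel.inv {Q : Subgroup Ω} {A : Subgroup (MulAut Q)} {R R' : Subgroup Ω} {f g h h' : Ω → Ω}
    (hf : Rel A R f h h') (hr : f '' R = (R' : Set Ω)) (hg : ∀ x ∈ R, g (f x) = x)
    (hh : ∀ x ∈ R, h x ∈ Q) : Rel A R' g h' h := by
  obtain ⟨a, ha, hae⟩ := hf
  refine ⟨a⁻¹, A.inv_mem ha, fun z hz y hy => ?_⟩
  obtain ⟨x, hx, rfl⟩ := exists_of_image hr hz
  have : y = a ⟨h x, hh x hx⟩ := Subtype.ext (hy.trans (hae x hx ⟨h x, hh x hx⟩ rfl).symm)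
  rw [this, MulAut.inv_apply_self, hg x hx]

/-- The subgroups of the class of `Q`. -/
def Cls (θ : S →* Ω') (Z : Subgroup Ω) (N : FusionSystem T') (Q R : Subgroup Ω) : Prop :=
  LiftCentric θ Z N R ∧ N.IsConj (imageAlong θ R) (imageAlong θ Q)

namespace LiftSetup

variable [Finite S] [Fact p.Prime] (h : LiftSetup p F θ Z E N)
include h

/-- A lifted map on the normalizer of `R` onto `Q`. -/
def Sel (Q R : Subgroup Ω) (f : Ω → Ω) : Prop :=
  MapFn h.gen (normalizerIn (preimageAlong θ T') R) f ∧ f '' R = (Q : Set Ω)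

theorem cls_map {Q R R' : Subgroup Ω} (hR : Cls θ Z N Q R) {f : Ω → Ω} (hf : MapFn h.D₀ R f)
    (hr : f '' R = (R' : Set Ω)) : Cls θ Z N Q R' := by
  obtain ⟨hfF, -, u, hu, hue⟩ := h.mapFn_D₀.mp hf
  exact ⟨h.centric_map hR.1 hfF hr,
    Fusion.isConj_trans (Fusion.isConj_symm (hu.isConj (h.bar_image hfF hr hue))) hR.2⟩

variable {Q : Subgroup Ω} (hQ : LiftCentric θ Z N Q) (hn : N.IsFullyNormalized (imageAlong θ Q))

include hQ hn in
theorem exists_sel {R : Subgroup Ω} (hR : Cls θ Z N Q R) : ∃ f, h.Sel Q R f := by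
  have := h.finite_T'
  obtain ⟨u, hu, hur, -⟩ := exists_normalizer_mapFn h.pgroup_T' h.normal.1.1 hn hR.2
  obtain ⟨l, hl, hle⟩ := h.exists_gen_lift hu
  rw [h.pre_normalizer hR.1.1 hR.1.2.1] at hl hle
  refine ⟨l, hl, ?_⟩
  have hRN : R ≤ normalizerIn (preimageAlong θ T') R := le_normalizerIn hR.1.1
  have h1 := h.image_pre ((h.mapFn_gen_F hl).mono hRN) hR.1.2.1 (fun x hx => (hle x (hRN hx)).symm) hur
  rwa [h.pre_bar (hQ.1.trans h.scT.1) hQ.2.1] at h1

variable {A : Subgroup (MulAut Q)} (hAW : autInducedBy (preimageAlong θ T') Q ≤ A)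
  (hAp : ∀ a ∈ h.D₀.autGroup Q, (orderOf a).Coprime p → a ∈ A)
  (hIH : ∀ R, LiftCentric θ Z N R → Nat.card Q < Nat.card R → h.gen.autGroup R ⊓ trivImg θ R ≤ Inn R)

include hQ hn hAW hAp hIH in
/-- Lifted maps defined properly above `R` act through `A`. -/
theorem rel_of_big {R R' P₀ : Subgroup Ω} (hRP : R < P₀) {f h₁ h₂ : Ω → Ω} (hf : MapFn h.gen P₀ f)
    (hr : f '' R = (R' : Set Ω)) (h₁s : h.Sel Q R h₁) (h₂s : h.Sel Q R' h₂) : Rel A R f h₁ h₂ := by
  set T := preimageAlong θ T' with hT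
  have hP₀T : P₀ ≤ T := hf.le_S
  have hTS : T ≤ S := h.scT.1
  have := finite_of_le hTS
  set M := normalizerIn P₀ R with hM
  have hRM : R < M := Fusion.lt_normalizerIn h.pgroup_T hP₀T hRP
  have hMN : M ≤ normalizerIn T R := fun x hx => ⟨hP₀T hx.1, hx.2⟩
  have hRM' : R ≤ M := hRM.le
  obtain ⟨U, -, hU⟩ := (h₁s.1.mono hMN).exists_image
  obtain ⟨k, hk, hkr, hk₁, -⟩ := (h₁s.1.mono hMN).exists_inv hU
  have hQU : Q ≤ U := fun y hy => by
    obtain ⟨x, hx, rfl⟩ := exists_of_image h₁s.2 hy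
    exact mem_of_image hU (hRM' hx)
  have hUN : U ≤ normalizerIn T Q := fun y hy => by
    obtain ⟨x, hx, rfl⟩ := exists_of_image hU hy
    exact (h₁s.1.mono hMN).mem_normalizerIn hRM' h₁s.2 hx hx.2
  have hlt : Q < U := by
    refine lt_of_le_of_ne hQU fun he => ?_
    have h1 := card_lt_card ((hMN.trans normalizerIn_le).trans hTS) hRM
    rw [← (h₁s.1.mono hMN).card_image hU, ← he,
      (h₁s.1.mono (hRM'.trans hMN)).card_image h₁s.2] at h1
    exact lt_irrefl _ h1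
  have hfM : ∀ x ∈ M, f x ∈ normalizerIn T R' := fun x hx => hf.mem_normalizerIn hRP.le hr hx.1 hx.2
  have hg : MapFn h.gen U (h₂ ∘ f ∘ k) :=
    (hk.comp (hf.mono normalizerIn_le) fun y hy => mem_of_image hkr hy).comp h₂s.1
      fun y hy => hfM _ (mem_of_image hkr hy)
  have hgQ : (h₂ ∘ f ∘ k) '' Q = (Q : Set Ω) := by
    conv_lhs => rw [← h₁s.2, Set.image_image]
    refine (Set.image_congr fun x hx => congrArg (h₂ ∘ f) (hk₁ x (hRM' hx))).trans ?_
    rw [Set.image_comp, hr, h₂s.2]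
  obtain ⟨a, ha, hae⟩ := h.inA_of_stab hQ hn hAW hAp hIH hlt hUN hg hgQ
  refine ⟨a, ha, fun x hx y hy => ?_⟩
  rw [hae y, hy]
  show h₂ (f (k (h₁ x))) = _
  rw [hk₁ x (hRM' hx)]

include hQ hn hAW hAp hIH in
/-- Every lifted map between subgroups of the class acts through `A`. -/
theorem rel_of_gen (hlt : Nat.card Q < Nat.card (preimageAlong θ T')) {R R' : Subgroup Ω}
    (hR : Cls θ Z N Q R) {f h₁ h₂ : Ω → Ω} (hf : MapFn h.gen R f) (hr : f '' R = (R' : Set Ω))
    (h₁s : h.Sel Q R h₁) (h₂s : h.Sel Q R' h₂) : Rel A R f h₁ h₂ := by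
  set T := preimageAlong θ T' with hT
  have hTS : T ≤ S := h.scT.1
  have := finite_of_le hTS
  have hcard : ∀ {R k}, h.Sel Q R k → R ≤ T → Nat.card R = Nat.card Q := fun hs hRT =>
    ((hs.1.mono (le_normalizerIn hRT)).card_image hs.2).symm
  have hbig : ∀ {R R' : Subgroup Ω} {f k₁ k₂ : Ω → Ω}, MapFn h.gen T f → f '' R = (R' : Set Ω) →
      R ≤ T → h.Sel Q R k₁ → h.Sel Q R' k₂ → Rel A R f k₁ k₂ :=
    fun {R R' f k₁ k₂} hf hr hRT hs hs' => h.rel_of_big hQ hn hAW hAp hIH (lt_of_le_of_ne hRT fun he => by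
      have := hcard hs hRT
      rw [he] at this
      omega) hf hr hs hs'
  let M : MapPred h.D₀ :=
    { pred := fun P g => MapFn h.gen P g ∧ (Cls θ Z N Q P → ∀ (P' : Subgroup Ω) (k₁ k₂ : Ω → Ω),
        g '' P = (P' : Set Ω) → h.Sel Q P k₁ → h.Sel Q P' k₂ → Rel A P g k₁ k₂)
      congr := fun {P g g'} hg e => ⟨hg.1.congr e, fun hc P' k₁ k₂ hr hs hs' =>
        (hg.2 hc P' k₁ k₂ ((Set.image_congr e).trans hr) hs hs').congr e⟩
      conj := fun {P g} hP hg => ⟨mapFn_conj hP hg, fun hc P' k₁ k₂ hr hs hs' =>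
        hbig (mapFn_conj le_rfl hg) hr hP hs hs'⟩
      comp := fun {P P₁ g g'} hg hgp hg' hgp' hm => by
        refine ⟨hgp.1.comp hgp'.1 hm, fun hc P' k₁ k₂ hr hs hs' => ?_⟩
        obtain ⟨R₁, -, hR₁⟩ := hg.exists_image
        have hc₁ : Cls θ Z N Q R₁ := h.cls_map hc hg hR₁
        obtain ⟨k, hk⟩ := h.exists_sel hQ hn hc₁
        have hR₁P : R₁ ≤ P₁ := fun y hy => by
          obtain ⟨x, hx, rfl⟩ := exists_of_image hR₁ hy
          exact hm x hx
        have hr' : g' '' R₁ = (P' : Set Ω) := by rw [← hR₁, ← Set.image_comp]; exact hr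
        refine (hgp.2 hc R₁ k₁ k hR₁ hs hk).comp ?_ fun x hx => mem_of_image hR₁ hx
        rcases eq_or_lt_of_le hR₁P with he | hlt
        · subst he
          exact hgp'.2 hc₁ P' k k₂ hr' hk hs'
        · exact h.rel_of_big hQ hn hAW hAp hIH hlt hgp'.1 hr' hk hs'
      inv := fun {P P₁ g g'} hg hgp hr hg' he => by
        obtain ⟨l, hl, -, hl₁, -⟩ := hgp.1.exists_inv hr
        have hgl : ∀ y ∈ P₁, l y = g' y := fun y hy => by
          obtain ⟨x, hx, rfl⟩ := exists_of_image hr hy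
          rw [hl₁ x hx, he x hx]
        refine ⟨hl.congr hgl, fun hc P' k₁ k₂ hr' hs hs' => ?_⟩
        obtain rfl : P' = P := SetLike.coe_injective <| by
          rw [← hr', ← hr, Set.image_image]
          exact (Set.image_congr he).trans (Set.image_id' _)
        have hc' : Cls θ Z N Q P' := h.cls_map hc hg' hr'
        exact (hgp.2 hc' P₁ k₂ k₁ hr hs' hs).inv hr he fun x hx => mem_of_image hs'.2 hx }
  have hgood : h.IsGood M.sub := by
    intro P hP a ha hac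
    obtain ⟨g, hg, hgr, hge⟩ := exists_mapFn_of_aut hP.1 (h.gen_isGood P hP a ha hac)
    refine (mem_autGroup_iff_mapFn hP.1).mpr ⟨g, M.mapFn_sub.mpr ⟨h.mapFn_gen_D₀ hg, hg, ?_⟩, hge⟩
    intro hc P' k₁ k₂ hr hs hs'
    obtain rfl : P' = P := SetLike.coe_injective (hr.symm.trans hgr)
    have h1 : Rel A P' g k₁ k₁ := by
      obtain ⟨φ, hφ, hφe⟩ := (h.mapFn_gen_F hs.1).mono (le_normalizerIn hP.1)
      obtain ⟨e, he⟩ := exists_equiv hφ
        (SetLike.coe_injective (by rw [← MapFn.image_eq_range hφe, hs.2]) : φ.range = Q)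
      refine ⟨MulAut.congr e a, hAp _ (h.congr_D₀ hP.1 hφ he ha) ?_, fun x hx y hy => ?_⟩
      · rwa [MulEquiv.orderOf_eq]
      · have e1 : y = e ⟨x, hx⟩ := Subtype.ext (by rw [hy, he, hφe])
        simp only [e1, MulAut.congr, MulEquiv.coe_mk, Equiv.coe_fn_mk, MulEquiv.trans_apply,
          MulEquiv.symm_apply_apply]
        rw [he, hφe, hge ⟨x, hx⟩]
    exact h1.comp (hbig (f := id) (mapFn_id le_rfl) (Set.image_id _) hP.1 hs hs')
      fun x hx => mem_of_image hgr hx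
  exact ((M.mapFn_sub.mp (mapFn_of_le (h.gen_le_of_good hgood) hf)).2.2) hR R' h₁ h₂ hr h₁s h₂s

omit hQ hn hAW hAp hIH

/-- The case of `T`. -/
theorem gen_triv_inn_top :
    h.gen.autGroup (preimageAlong θ T') ⊓ trivImg θ (preimageAlong θ T') ≤
      Inn (preimageAlong θ T') := by
  set T := preimageAlong θ T' with hT
  have hTS : T ≤ S := h.scT.1
  have := finite_of_le hTS
  have := h.finite_T'
  have hn : N.IsFullyNormalized (imageAlong θ T) := by
    rw [h.bar_pre le_rfl]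
    refine ⟨le_rfl, fun X hX => ?_⟩
    rw [eq_of_le_of_card_le (IsConj.le_right hX) (IsConj.card_eq hX).ge]
  have hcT : LiftCentric θ Z N T := ⟨le_rfl, h.Z_le_pre T', by
    rw [h.bar_pre le_rfl]
    refine ⟨le_rfl, fun X hX => ?_⟩
    rw [eq_of_le_of_card_le (IsConj.le_right hX) (IsConj.card_eq hX).ge]
    exact inf_le_left⟩
  obtain ⟨A, -, hAW, hAp, hAi⟩ := h.exists_cut_aut hcT hn
  let M : MapPred h.D₀ :=
    { pred := fun P f => P = T → InA A f
      congr := fun hf e hP => (hf hP).congr fun x hx => e x (hP ▸ hx)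
      conj := fun {P g} _ hg _ => by
        obtain ⟨c, hc, hce⟩ := exists_autInducedBy (K := T) hg (Subgroup.le_normalizer hg)
        exact ⟨c, hAW hc, hce⟩
      comp := fun {P P₁ f g} hf hfp hg hgp hm hP => by
        subst hP
        have hi : f '' T = (T : Set Ω) := hf.image_eq_of_maps le_rfl (fun x hx => hf.mem_S hx) le_rfl
        refine (hfp rfl).comp (hgp (le_antisymm hg.le_S fun y hy => ?_))
        obtain ⟨x, hx, rfl⟩ := exists_of_image hi hy
        exact hm x hx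
      inv := fun {P P₁ f g} hf hfp hr _ he hP => by
        subst hP
        have hPT : P = T := eq_of_le_of_card_le hf.le_S (hf.card_image hr).le
        subst hPT
        exact (hfp rfl).inv he }
  have hgood : h.IsGood M.sub := by
    intro P hP a ha hac
    obtain ⟨f, hf, -, hfe⟩ := exists_mapFn_of_aut hP.1 ha
    refine (mem_autGroup_iff_mapFn hP.1).mpr ⟨f, M.mapFn_sub.mpr ⟨hf, fun he => ?_⟩, hfe⟩
    subst he
    exact ⟨a, hAp a ha hac, fun x => (hfe x).symm⟩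
  rintro a ⟨ha, hat⟩
  obtain ⟨f, hf, -, hfe⟩ := exists_mapFn_of_aut le_rfl ha
  obtain ⟨b, hb, hbe⟩ := (M.mapFn_sub.mp (mapFn_of_le (h.gen_le_of_good hgood) hf)).2 rfl
  obtain rfl : b = a := MulEquiv.ext fun x => Subtype.ext ((hbe x).trans (hfe x))
  exact hAi ⟨hb, hat⟩

/-- Lifted automorphisms over `N`-centric subgroups that are trivial on the image are inner. -/
theorem gen_triv_inn : ∀ P, LiftCentric θ Z N P → h.gen.autGroup P ⊓ trivImg θ P ≤ Inn P := by
  suffices H : ∀ (m : ℕ) (P : Subgroup Ω), Nat.card (preimageAlong θ T') - Nat.card P < m →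
      LiftCentric θ Z N P → h.gen.autGroup P ⊓ trivImg θ P ≤ Inn P from
    fun P => H _ P (Nat.lt_succ_self _)
  intro m
  induction m with
  | zero => intro P hm; omega
  | succ m ih =>
  intro P hm hP
  set T := preimageAlong θ T' with hT
  have hTS : T ≤ S := h.scT.1
  have := finite_of_le hTS
  have := h.finite_T'
  by_cases hPT : P = T
  · subst hPT; exact h.gen_triv_inn_top
  have hcard := card_lt_card hTS (lt_of_le_of_ne hP.1 hPT)
  obtain ⟨Qb, hQb, hn⟩ := exists_fullyNormalized (F := N) (h.bar_le hP.1)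
  obtain ⟨u, hu, hur⟩ := isConj_iff.mp hQb
  obtain ⟨f₀, hf₀, hf₀u⟩ := h.exists_gen_lift hu
  rw [h.pre_bar (hP.1.trans hTS) hP.2.1] at hf₀ hf₀u
  have hf₀r := h.image_pre (h.mapFn_gen_F hf₀) hP.2.1 (fun x hx => (hf₀u x hx).symm) hur
  have hQbT : Qb ≤ T' := hn.1
  set Q := preimageAlong θ Qb with hQdef
  have hbar : imageAlong θ Q = Qb := h.bar_pre hQbT
  rw [← hbar] at hQb hn
  have hQ : LiftCentric θ Z N Q := h.centric_map hP (h.mapFn_gen_F hf₀) hf₀r
  have hcQ : Nat.card Q = Nat.card P := hf₀.card_image hf₀r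
  have hTc : Nat.card T = Nat.card (preimageAlong θ T') := rfl
  obtain ⟨A, -, hAW, hAp, hAi⟩ := h.exists_cut_aut hQ hn
  have hIH : ∀ R, LiftCentric θ Z N R → Nat.card Q < Nat.card R →
      h.gen.autGroup R ⊓ trivImg θ R ≤ Inn R := fun R hR hlt => by
    have := Subgroup.card_le_of_le hR.1
    exact ih R (by omega) hR
  have hc : Cls θ Z N Q P := ⟨hP, hQb⟩
  obtain ⟨k, hk⟩ := h.exists_sel hQ hn hc
  rintro a ⟨ha, hat⟩
  obtain ⟨f, hf, hfr, hfe⟩ := exists_mapFn_of_aut hP.1 ha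
  obtain ⟨b, hb, hbe⟩ := h.rel_of_gen hQ hn hAW hAp hIH (by omega) hc hf hfr hk hk
  obtain ⟨φ, hφ, hφe⟩ := (h.mapFn_gen_F hk.1).mono (le_normalizerIn hP.1)
  obtain ⟨e, he⟩ := exists_equiv hφ
    (SetLike.coe_injective (by rw [← MapFn.image_eq_range hφe, hk.2]) : φ.range = Q)
  have hba : b = MulAut.congr e a := by
    refine MulEquiv.ext fun y => Subtype.ext ?_
    obtain ⟨x, rfl⟩ := e.surjective y
    rw [hbe x x.2 (e x) ((he x).trans (hφe x))]
    simp only [MulAut.congr, MulEquiv.coe_mk, Equiv.coe_fn_mk, MulEquiv.trans_apply,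
      MulEquiv.symm_apply_apply]
    rw [he, hφe, hfe]
  have h1 := h.congr_triv hφ he
    (a := a) ⟨h.autGroup_D₀_le hP.1 (h.autGroup_gen_le hP.1 ha), hat⟩
  rw [← hba] at h1
  have h2 := congr_inn (e := e.symm) (hAi ⟨hb, h1.2⟩)
  convert h2 using 1
  rw [hba]
  refine MulEquiv.ext fun x => ?_
  simp [MulAut.congr]

end LiftSetup

end CfsgLib.FusionLayer
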