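import Cfsg.Agent.Lib.FusionLayer.LiftCent

/-!
# Cutting the automorphisms over `N` down to a complement of the kernel

At `Q` over a fully normalized `N`-centric subgroup there is a group of automorphisms over `N`
containing `Aut_T(Q)` and all elements of order prime to `p` that meets the kernel in inner
automorphisms only.
-/

set_option autoImplicit false

namespace CfsgLib.FusionLayer

open Cfsg Cfsg.FusionSystem CfsgLib.Fusion CfsgLib.FusionNormal CfsgLib.FusionTransport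

variable {Ω Ω' : Type*} [Group Ω] [Group Ω'] {S : Subgroup Ω}
variable {F : FusionSystem S} {θ : S →* Ω'} {Z : Subgroup Ω} {S' : Subgroup Ω'} {E : FusionSystem S'}
  {T' : Subgroup Ω'} {N : FusionSystem T'} {p : ℕ}

namespace LiftSetup

variable [Finite S] [Fact p.Prime] (h : LiftSetup p F θ Z E N)
include h

theorem exists_autInducedBy_bar {Q : Subgroup Ω} (hQ : Q ≤ preimageAlong θ T') (hZ : Z ≤ Q)
    {b : MulAut (imageAlong θ Q)} (hb : b ∈ autInducedBy T' (imageAlong θ Q)) :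
    ∃ a : h.D₀.autGroup Q, (a : MulAut Q) ∈ autInducedBy (preimageAlong θ T') Q ∧ h.pi hQ a = b := by
  obtain ⟨y, hy, hyb⟩ := mem_autInducedBy.mp hb
  obtain ⟨t, ht, rfl⟩ := h.exists_img hy
  have htN : t ∈ normalizerIn (preimageAlong θ T') Q := by
    rw [← h.pre_normalizer hQ hZ, mem_preimageAlong_iff]
    exact ⟨h.scT.1 ht, hy, mem_normalizer_of_aut hyb⟩
  obtain ⟨a, ha, hae⟩ := exists_autInducedBy (K := preimageAlong θ T') ht htN.2
  exact ⟨⟨a, autInducedBy_le_autGroup hQ ha⟩, ha,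
    down_unique (hQ.trans h.scT.1) (h.pi_down hQ _) (down_conj (hQ.trans h.scT.1) (h.scT.1 ht) hae hyb)⟩

/-- An element of `T` acting on `Q` as an inner automorphism after a trivial one lies in `Q`. -/
theorem mem_of_conj_triv_inn {Q : Subgroup Ω} (hQ : LiftCentric θ Z N Q) {t : Ω}
    (ht : t ∈ preimageAlong θ T') {c k i : MulAut Q} (hc : ∀ x : Q, ((c x : Q) : Ω) = t * x * t⁻¹)
    (hk : k ∈ trivImg θ Q) (hi : i ∈ Inn Q) (he : c = k * i) : t ∈ Q ∧ c ∈ Inn Q := by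
  have hQS := hQ.1.trans h.scT.1
  obtain ⟨q, hq⟩ := mem_inn.mp hi
  have hm : t * (q : Ω)⁻¹ ∈ Q := by
    refine h.mem_of_centralizes hQ (Subgroup.mul_mem _ ht (Subgroup.inv_mem _ (hQ.1 q.2))) fun x hx => ?_
    have e1 : k ⟨x, hx⟩ = c (i⁻¹ ⟨x, hx⟩) := by
      rw [he, MulAut.mul_apply, MulAut.apply_inv_self]
    have e2 : ((i⁻¹ ⟨x, hx⟩ : Q) : Ω) = (q : Ω)⁻¹ * x * q := by
      have h1 := congrArg Subtype.val (hq (i⁻¹ ⟨x, hx⟩))
      rw [MulAut.apply_inv_self] at h1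
      simp only [Subgroup.coe_mul, Subgroup.coe_inv] at h1
      calc ((i⁻¹ ⟨x, hx⟩ : Q) : Ω) = (q : Ω)⁻¹ * ((q : Ω) * (i⁻¹ ⟨x, hx⟩ : Q) * (q : Ω)⁻¹) * q := by group
        _ = (q : Ω)⁻¹ * x * q := by rw [← h1]
    have e3 := hk ⟨x, hx⟩
    rw [e1, hc, e2] at e3
    rw [← e3]
    congr 1
    group
  have htQ : t ∈ Q := by
    have h1 := Q.mul_mem hm q.2
    rwa [inv_mul_cancel_right] at h1
  exact ⟨htQ, mem_inn.mpr ⟨⟨t, htQ⟩, fun x => Subtype.ext (hc x)⟩⟩

theorem exists_cut_aut {Q : Subgroup Ω} (hQ : LiftCentric θ Z N Q)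
    (hn : N.IsFullyNormalized (imageAlong θ Q)) :
    ∃ A : Subgroup (MulAut Q), A ≤ h.D₀.autGroup Q ∧ autInducedBy (preimageAlong θ T') Q ≤ A ∧
      (∀ a ∈ h.D₀.autGroup Q, (orderOf a).Coprime p → a ∈ A) ∧ A ⊓ trivImg θ Q ≤ Inn Q := by
  set T := preimageAlong θ T' with hT
  have hTS : T ≤ S := h.scT.1
  have hQT : Q ≤ T := hQ.1
  have hQS : Q ≤ S := hQT.trans hTS
  have := finite_of_le hQS
  have := finite_mulAut hQS
  have := h.finite_factor
  have := h.finite_T'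
  have := finite_mulAut (h.bar_le hQT)
  obtain ⟨hNa, hNr⟩ := fullyNormalized_good h.pgroup_T' h.normal.1.1 hn
  set M := h.D₀.autGroup Q with hM
  set W := (autInducedBy T Q).subgroupOf M with hW
  set K := (trivImg θ Q).subgroupOf M with hK
  set I := (Inn Q).subgroupOf M with hI
  have hIn : I.Normal := (innNormal Q).subgroupOf _
  have hMF : M ≤ F.autGroup Q := h.autGroup_D₀_le hQT
  have hKF : ∀ k : M, k ∈ K → (k : MulAut Q) ∈ F.autGroup Q ⊓ trivImg θ Q := fun k hk => ⟨hMF k.2, hk⟩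
  let q := QuotientGroup.mk' I
  have hIW : I ≤ W := fun a ha => inn_le_autInducedBy hQT ha
  have hKp : IsPGroup p K := by
    rintro ⟨⟨a, haM⟩, ha⟩
    obtain ⟨k, hk⟩ := h.triv_isPGroup hQS ⟨a, hMF haM, ha⟩
    exact ⟨k, Subtype.ext (Subtype.ext (by simpa using congrArg Subtype.val hk))⟩
  -- index
  let π : M →* N.autGroup (imageAlong θ Q) := (h.pi hQT).codRestrict _ (h.pi_mem hQT)
  have hπs : Function.Surjective π := fun b => by
    obtain ⟨a, ha⟩ := h.exists_pi_eq hQT hQ.2.1 b.2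
    exact ⟨a, Subtype.ext ha⟩
  obtain ⟨-, R, hR⟩ := hNa
  have hidx : ¬ p ∣ (W.map q ⊔ K.map q).index := by
    have hle : (R : Subgroup _).comap π ≤ (W.map q ⊔ K.map q).comap q := by
      intro a ha
      obtain ⟨c, hc, hce⟩ := h.exists_autInducedBy_bar hQT hQ.2.1 (Subgroup.mem_subgroupOf.mp (hR.le ha))
      have h1 : c⁻¹ * a ∈ K := (h.pi_eq_one_iff hQT (c⁻¹ * a)).mp (by
        rw [map_mul, map_inv, hce]; exact inv_mul_cancel _)
      rw [Subgroup.mem_comap, ← mul_inv_cancel_left c a, map_mul]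
      exact Subgroup.mul_mem _ (Subgroup.mem_sup_left ⟨c, hc, rfl⟩) (Subgroup.mem_sup_right ⟨_, h1, rfl⟩)
    intro hd
    rw [← Subgroup.index_comap_of_surjective _ (QuotientGroup.mk'_surjective I)] at hd
    refine R.not_dvd_index ?_
    rw [← Subgroup.index_comap_of_surjective _ hπs]
    exact hd.trans (Subgroup.index_dvd_of_le hle)
  -- `K` is central in the quotient
  have hKc : K.map q ≤ Subgroup.center (M ⧸ I) := by
    rintro _ ⟨k, hk, rfl⟩
    refine Subgroup.mem_center_iff.mpr fun y => ?_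
    obtain ⟨a, rfl⟩ := QuotientGroup.mk'_surjective I y
    have h1 : a * k * a⁻¹ * k⁻¹ ∈ I := h.comm_inn Q hQ a a.2 k (hKF k hk)
    have h2 : q (a * k * a⁻¹ * k⁻¹) = 1 := (QuotientGroup.eq_one_iff _).mpr h1
    rw [map_mul, map_mul, map_mul, map_inv, map_inv, mul_inv_eq_one, mul_inv_eq_iff_eq_mul] at h2
    exact h2
  have hdisj : W.map q ⊓ K.map q = ⊥ := by
    rw [eq_bot_iff]
    rintro _ ⟨⟨w, hw, rfl⟩, k, hk, hke⟩
    obtain ⟨t, ht, hte⟩ := mem_autInducedBy.mp hw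
    have h1 : k⁻¹ * w ∈ I := (QuotientGroup.eq (s := I)).mp hke
    obtain ⟨-, h2⟩ := h.mem_of_conj_triv_inn hQ ht hte hk h1 (by simp)
    exact (QuotientGroup.eq_one_iff _).mpr (show w ∈ I from h2)
  have hfus : ∀ g : M ⧸ I, ∀ w ∈ W.map q, ∀ k ∈ K.map q, g * w * g⁻¹ * k ∈ W.map q → k = 1 := by
    rintro g _ ⟨w, hw, rfl⟩ _ ⟨k, hk, rfl⟩ hgw
    obtain ⟨x, rfl⟩ := QuotientGroup.mk'_surjective I g
    obtain ⟨w', hw', hwe⟩ := hgw
    have hxw : x * w * x⁻¹ * k ∈ W := by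
      have h1 : w'⁻¹ * (x * w * x⁻¹ * k) ∈ I := (QuotientGroup.eq (s := I)).mp (by
        simpa [q] using hwe)
      have h2 := W.mul_mem hw' (hIW h1)
      rwa [mul_inv_cancel_left] at h2
    refine (QuotientGroup.eq_one_iff _).mpr (show (k : MulAut Q) ∈ Inn Q from ?_)
    obtain ⟨t, ht, hte'⟩ := mem_autInducedBy.mp hw
    have hte : ∀ y : Q, (((w : MulAut Q) y : Q) : Ω) = t * y * t⁻¹ := hte'
    obtain ⟨u, hu, hue'⟩ := mem_autInducedBy.mp hxw
    have hue : ∀ y : Q, ((((x * w * x⁻¹ * k : M) : MulAut Q) y : Q) : Ω) = u * y * u⁻¹ := hue'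
    have htS := hTS ht
    have huS := hTS hu
    -- extend `x` to `t`
    obtain ⟨xb, hxb, hxbr, hxbe⟩ := exists_mapFn_of_aut (h.bar_le hQT) (h.pi_mem hQT x)
    obtain ⟨φ, hφ, hφe⟩ := id hxb
    have htn := mem_normalizer_of_aut hte
    have htb : img θ t ∈ normalizerIn T' (imageAlong θ Q) := by
      rw [← h.bar_normalizer hQT hQ.2.1]
      exact img_mem_imageAlong (normalizerIn_le.trans hTS) ⟨ht, htn⟩
    have hkey : ∀ y : Q, img θ (((x : MulAut Q) ((w : MulAut Q) y) : Q) : Ω) =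
        img θ u * img θ (((x : MulAut Q) y : Q) : Ω) * (img θ u)⁻¹ := fun y => by
      obtain ⟨i, hi, -, hie⟩ := exists_mapFn_of_aut hQS (hMF (x * w * x⁻¹).2)
      have hk' : img θ (((k : MulAut Q) ((x : MulAut Q) y) : Q) : Ω) =
          img θ (((x : MulAut Q) y : Q) : Ω) := hk _
      rw [← img_conj huS (hQS (Subtype.mem _)), ← hue]
      simp only [Subgroup.coe_mul, Subgroup.coe_inv, MulAut.mul_apply]
      have h3 := h.img_congr hi (Subtype.mem _) (Subtype.mem _) hk'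
      rw [hie, hie] at h3
      simp only [Subgroup.coe_mul, Subgroup.coe_inv, MulAut.mul_apply, MulAut.inv_apply_self] at h3
      exact h3.symm
    have hxbi : ∀ y : Q, xb (img θ (y : Ω)) = img θ (((x : MulAut Q) y : Q) : Ω) := fun y =>
      (hxbe ⟨_, img_mem_imageAlong hQS y.2⟩).trans (h.pi_down hQT x y _)
    have hext : imageAlong θ Q ⊔ Subgroup.zpowers (img θ t) ≤ extender T' (imageAlong θ Q) φ := by
      refine sup_le (le_extender (h.bar_le hQT) (apply_mem_S hφ)) (Subgroup.zpowers_le.mpr ?_)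
      refine mem_extender.mpr ⟨htb.1, htb.2, img θ u, h.bar_le le_rfl (img_mem_imageAlong hTS hu), ?_⟩
      rintro ⟨z, hz⟩ hz'
      obtain ⟨y, hy, hyS, rfl⟩ := exists_of_mem_imageAlong hz
      rw [hφe, hφe]
      show xb (img θ t * img θ y * (img θ t)⁻¹) = img θ u * xb (img θ y) * (img θ u)⁻¹
      rw [← img_conj htS hyS, ← hte ⟨y, hy⟩, hxbi _, hxbi ⟨y, hy⟩, hkey]
    obtain ⟨n, hn', hne⟩ := hxb.exists_extension hNr hxbr le_sup_left
      (sup_le (le_normalizerIn (h.bar_le hQT)) (Subgroup.zpowers_le.mpr htb)) (fun g hg => by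
        obtain ⟨-, hgn, s, hs, hse⟩ := mem_extender.mp (hext hg)
        refine ⟨s, hs, fun z hz => ?_⟩
        have h1 := hse ⟨z, hz⟩ (conj_mem_of_normalizer hgn hz)
        rwa [hφe, hφe] at h1)
    obtain ⟨f, hf, hfn⟩ := h.exists_lift hn'
    set P := preimageAlong θ (imageAlong θ Q ⊔ Subgroup.zpowers (img θ t))
    have hQP : Q ≤ P := (h.pre_bar hQS hQ.2.1).ge.trans (FusionSolvable.preimageAlong_mono le_sup_left)
    have htP : t ∈ P := mem_preimageAlong_iff.mpr ⟨htS, Subgroup.mem_sup_right (Subgroup.mem_zpowers _)⟩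
    have hfF := (h.mapFn_D₀.mp hf).1
    have hfQ : f '' Q = (Q : Set Ω) := by
      have h1 := h.image_pre (hfF.mono hQP) hQ.2.1 (fun y hy => (hfn y (hQP hy)).symm)
        (R' := imageAlong θ Q) ((Set.image_congr hne).trans hxbr)
      rwa [h.pre_bar hQS hQ.2.1] at h1
    have hft : f t ∈ T := hf.mem_S htP
    obtain ⟨a, ha, hae⟩ := (hf.mono hQP).exists_aut hfQ
    have hdiff : a⁻¹ * (x : MulAut Q) ∈ F.autGroup Q ⊓ trivImg θ Q := by
      refine ⟨Subgroup.mul_mem _ (Subgroup.inv_mem _ (hMF ha)) (hMF x.2), fun y => ?_⟩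
      obtain ⟨i, hi, -, hie⟩ := exists_mapFn_of_aut hQS (Subgroup.inv_mem _ (hMF ha))
      have e1 : img θ (((x : MulAut Q) y : Q) : Ω) = img θ ((a y : Q) : Ω) := by
        rw [hae, hfn y (hQP y.2), hne _ (img_mem_imageAlong hQS y.2), hxbi]
      rw [MulAut.mul_apply, ← hie, h.img_congr hi (Subtype.mem _) (Subtype.mem _) e1, hie,
        MulAut.inv_apply_self]
    have hc1 : ∀ y : Q, (((a * (w : MulAut Q) * a⁻¹) y : Q) : Ω) = f t * y * (f t)⁻¹ := fun y => by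
      rw [MulAut.mul_apply, MulAut.mul_apply, hae, hte, hf.map_conj htP (hQP (a⁻¹ y).2), ← hae,
        MulAut.apply_inv_self]
    -- `[w, a⁻¹ x]` is inner
    have hcomm := h.comm_inn Q hQ _ w.2 _ hdiff
    have hi : (a * (w : MulAut Q) * a⁻¹)⁻¹ * ((x : MulAut Q) * w * (x : MulAut Q)⁻¹) ∈ Inn Q := by
      have h1 := Subgroup.inv_mem _ ((innNormal Q).conj_mem _ hcomm (a * (w : MulAut Q)⁻¹))
      convert h1 using 1
      group
    set v := (f t)⁻¹ * u
    have hv : ∀ y : Q, (((a * (w : MulAut Q) * a⁻¹)⁻¹ * (x * w * x⁻¹ * k : M).1) y : Ω) = v * y * v⁻¹ := by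
      intro y
      have h1 := hc1 ((a * (w : MulAut Q) * a⁻¹)⁻¹ ((x * w * x⁻¹ * k : M).1 y))
      rw [MulAut.apply_inv_self, hue] at h1
      show (((a * (w : MulAut Q) * a⁻¹)⁻¹ ((x * w * x⁻¹ * k : M).1 y) : Q) : Ω) = _
      calc _ = (f t)⁻¹ * (f t * (((a * (w : MulAut Q) * a⁻¹)⁻¹ ((x * w * x⁻¹ * k : M).1 y) : Q) : Ω) *
            (f t)⁻¹) * f t := by group
        _ = v * y * v⁻¹ := by rw [← h1]; simp only [v]; group
    have h3 := h.mem_of_conj_triv_inn hQ (T.mul_mem (T.inv_mem hft) hu) hv hk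
      ((innNormal Q).conj_mem _ hi (k : MulAut Q)⁻¹) (by simp [mul_assoc])
    have h4 := Subgroup.mul_mem _ (Subgroup.inv_mem _ hi) h3.2
    convert h4 using 1
    simp [mul_assoc]
  obtain ⟨A, -, hWA, hpA, hAK⟩ := exists_cut (p := p) (W.map q) (K.map q) hKc (hKp.map q) hdisj hidx hfus
  refine ⟨(A.comap q).map M.subtype, Subgroup.map_subtype_le _, fun c hc => ?_, fun a ha hac => ?_, ?_⟩
  · exact ⟨⟨c, autInducedBy_le_autGroup hQT hc⟩, hWA ⟨_, hc, rfl⟩, rfl⟩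
  · refine ⟨⟨a, ha⟩, hpA _ (Nat.Coprime.coprime_dvd_left (orderOf_map_dvd q _) ?_), rfl⟩
    rwa [← Subgroup.orderOf_coe]
  · rintro _ ⟨⟨a, ha, rfl⟩, haK⟩
    have h1 : q a ∈ A ⊓ K.map q := ⟨ha, a, haK, rfl⟩
    rw [hAK, Subgroup.mem_bot] at h1
    exact (QuotientGroup.eq_one_iff a).mp h1

end LiftSetup

end CfsgLib.FusionLayer
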