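import Cfsg.Agent.Lib.FusionLayer.LiftCut

/-!
# The lifted system

The least system over `T` containing the automorphisms over `N` of order prime to `p` of the subgroups
lying over `N`-centric subgroups. It induces every map of `N`.
-/

set_option autoImplicit false
set_option maxHeartbeats 400000

namespace CfsgLib.FusionLayer

open Cfsg Cfsg.FusionSystem CfsgLib.Fusion CfsgLib.FusionNormal CfsgLib.FusionTransport

variable {Ω Ω' : Type*} [Group Ω] [Group Ω'] {S : Subgroup Ω}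
variable {F : FusionSystem S} {θ : S →* Ω'} {Z : Subgroup Ω} {S' : Subgroup Ω'} {E : FusionSystem S'}
  {T' : Subgroup Ω'} {N : FusionSystem T'} {p : ℕ}

namespace LiftSetup

variable [Finite S] [Fact p.Prime] (h : LiftSetup p F θ Z E N)
include h

/-- Systems containing the generators. -/
def IsGood (X : FusionSystem (preimageAlong θ T')) : Prop :=
  ∀ P, LiftCentric θ Z N P → ∀ a ∈ h.D₀.autGroup P, (orderOf a).Coprime p → a ∈ X.autGroup P

/-- Being in every system containing the generators. -/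
def genPred : MapPred h.D₀ where
  pred P f := ∀ X, h.IsGood X → MapFn X P f
  congr hf e X hX := (hf X hX).congr e
  conj hP hg _ _ := mapFn_conj hP hg
  comp _ hf _ hg hm X hX := (hf X hX).comp (hg X hX) hm
  inv {P Q f g} _ hf hr _ hgf X hX := by
    obtain ⟨g', hg', -, hg'₁, -⟩ := (hf X hX).exists_inv hr
    exact hg'.congr fun y hy => by
      obtain ⟨x, hx, rfl⟩ := exists_of_image hr hy
      rw [hgf x hx, hg'₁ x hx]

/-- The lifted system. -/
def gen : FusionSystem (preimageAlong θ T') := h.genPred.sub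

theorem mapFn_gen_D₀ {P : Subgroup Ω} {f : Ω → Ω} (hf : MapFn h.gen P f) : MapFn h.D₀ P f :=
  (h.genPred.mapFn_sub.mp hf).1

theorem mapFn_gen_F {P : Subgroup Ω} {f : Ω → Ω} (hf : MapFn h.gen P f) : MapFn F P f :=
  (h.mapFn_D₀.mp (h.mapFn_gen_D₀ hf)).1

theorem gen_sub : h.gen.IsSubsystemOf F := fun _ =>
  hom_subset_iff_mapFn.mpr fun _ hf => h.mapFn_gen_F hf

theorem gen_le_of_good {X : FusionSystem (preimageAlong θ T')} (hX : h.IsGood X) : h.gen ≤ X := fun _ =>
  hom_subset_iff_mapFn.mpr fun _ hf => (h.genPred.mapFn_sub.mp hf).2 X hX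

theorem gen_isGood : h.IsGood h.gen := by
  intro P hP a ha hac
  obtain ⟨f, hf, -, hfe⟩ := exists_mapFn_of_aut hP.1 ha
  refine (mem_autGroup_iff_mapFn hP.1).mpr ⟨f, h.genPred.mapFn_sub.mpr ⟨hf, fun X hX => ?_⟩, hfe⟩
  obtain ⟨g, hg, -, hge⟩ := exists_mapFn_of_aut hP.1 (hX P hP a ha hac)
  exact hg.congr fun x hx => (hge ⟨x, hx⟩).trans (hfe ⟨x, hx⟩).symm

theorem autGroup_gen_le {P : Subgroup Ω} (hP : P ≤ preimageAlong θ T') :
    h.gen.autGroup P ≤ h.D₀.autGroup P := fun a ha => by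
  rw [mem_autGroup_iff_mapFn hP] at ha ⊢
  obtain ⟨f, hf, he⟩ := ha
  exact ⟨f, h.mapFn_gen_D₀ hf, he⟩

/-- An element of order prime to `p` over `N` has a lift of order prime to `p`. -/
theorem exists_coprime_lift {P : Subgroup Ω} (hP : P ≤ preimageAlong θ T') (a : h.D₀.autGroup P)
    (hb : (orderOf (h.pi hP a)).Coprime p) :
    ∃ r : ℕ, (orderOf ((a : MulAut P) ^ r)).Coprime p ∧ h.pi hP (a ^ r) = h.pi hP a := by
  have := finite_of_le h.scT.1
  have := finite_mulAut hP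
  obtain ⟨r, hr, hr1⟩ := Fusion.PPrimeRes.exists_coprime_part (p := p) (a : MulAut P)
    (m := orderOf (h.pi hP a)) hb
  refine ⟨r, hr, ?_⟩
  rw [map_pow]
  conv_rhs => rw [← pow_one (h.pi hP a)]
  exact pow_eq_pow_iff_modEq.mpr hr1

/-- Automorphisms of `N` at fully normalized centric subgroups lift. -/
theorem exists_gen_aut {P : Subgroup Ω} (hP : LiftCentric θ Z N P)
    (hn : N.IsFullyNormalized (imageAlong θ P)) {b : MulAut (imageAlong θ P)}
    (hb : b ∈ N.autGroup (imageAlong θ P)) :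
    ∃ a : h.D₀.autGroup P, (a : MulAut P) ∈ h.gen.autGroup P ∧ h.pi hP.1 a = b := by
  have := h.finite_T'
  have := finite_mulAut (h.bar_le hP.1)
  obtain ⟨⟨-, R, hR⟩, -⟩ := fullyNormalized_good h.pgroup_T' h.normal.1.1 hn
  let π : h.D₀.autGroup P →* N.autGroup (imageAlong θ P) := (h.pi hP.1).codRestrict _ (h.pi_mem hP.1)
  have hRi : ¬ p ∣ (R : Subgroup (N.autGroup (imageAlong θ P))).index := R.not_dvd_index
  have hHt : ((h.gen.autGroup P).subgroupOf (h.D₀.autGroup P)).map π = ⊤ := by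
    refine eq_top_of_coprime_index (p := p) (V := (R : Subgroup (N.autGroup (imageAlong θ P))))
      (fun c hc => ?_) hRi (fun c hc => ?_)
    · rw [hR] at hc
      obtain ⟨a, ha, hae⟩ := h.exists_autInducedBy_bar hP.1 hP.2.1 (Subgroup.mem_subgroupOf.mp hc)
      exact ⟨a, autInducedBy_le_autGroup hP.1 ha, Subtype.ext hae⟩
    · obtain ⟨a, ha⟩ := h.exists_pi_eq hP.1 hP.2.1 c.2
      obtain ⟨r, hr, hre⟩ := h.exists_coprime_lift hP.1 a (by rw [ha, Subgroup.orderOf_coe]; exact hc)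
      refine ⟨a ^ r, ?_, Subtype.ext (hre.trans ha)⟩
      show ((a ^ r : h.D₀.autGroup P) : MulAut P) ∈ h.gen.autGroup P
      rw [Subgroup.coe_pow]
      exact h.gen_isGood P hP ((a : MulAut P) ^ r) (Subgroup.pow_mem _ a.2 r) hr
  obtain ⟨a, ha, hae⟩ := hHt.ge (Subgroup.mem_top (⟨b, hb⟩ : N.autGroup (imageAlong θ P)))
  exact ⟨a, ha, congrArg Subtype.val hae⟩

/-- Every map of `N` is induced by a map of the lifted system. -/
theorem exists_gen_lift {Q : Subgroup Ω'} {u : Ω' → Ω'} (hu : MapFn N Q u) :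
    ∃ l, MapFn h.gen (preimageAlong θ Q) l ∧ ∀ x ∈ preimageAlong θ Q, img θ (l x) = u (img θ x) := by
  have := h.finite_T'
  refine alperin_induction h.pgroup_T' h.normal.1.1
    (fun Q u => ∃ l, MapFn h.gen (preimageAlong θ Q) l ∧
      ∀ x ∈ preimageAlong θ Q, img θ (l x) = u (img θ x))
    ?_ ?_ ?_ ?_ ?_ Q u hu
  · rintro P f g - ⟨l, hl, hle⟩ e
    exact ⟨l, hl, fun x hx => (hle x hx).trans (e _ (mem_preimageAlong_iff.mp hx).2)⟩
  · rintro P R f - ⟨l, hl, hle⟩ hR
    exact ⟨l, hl.mono (FusionSolvable.preimageAlong_mono hR),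
      fun x hx => hle x (FusionSolvable.preimageAlong_mono hR hx)⟩
  · rintro P R f g - ⟨l, hl, hle⟩ - ⟨l', hl', hle'⟩ hm
    have hlR : ∀ x ∈ preimageAlong θ P, l x ∈ preimageAlong θ R := fun x hx =>
      mem_preimageAlong_iff.mpr ⟨h.scT.1 (hl.mem_S hx),
        by rw [hle x hx]; exact hm _ (mem_preimageAlong_iff.mp hx).2⟩
    exact ⟨l' ∘ l, hl.comp hl' hlR, fun x hx => by
      show img θ (l' (l x)) = g (f (img θ x))
      rw [hle' _ (hlR x hx), hle x hx]⟩
  · rintro P R f g hf ⟨l, hl, hle⟩ hr - hgf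
    have hP : P ≤ T' := hf.le_S
    have hlr : l '' preimageAlong θ P = (preimageAlong θ R : Set Ω) :=
      h.image_pre (h.mapFn_gen_F hl) (h.Z_le_pre P) (fun x hx => (hle x hx).symm)
        (by rw [h.bar_pre hP]; exact hr)
    obtain ⟨l', hl', hl'r, hl'₁, hl'₂⟩ := hl.exists_inv hlr
    refine ⟨l', hl', fun y hy => ?_⟩
    obtain ⟨x, hx, rfl⟩ := exists_of_image hlr hy
    rw [hl'₁ x hx, hle x hx, hgf _ (mem_preimageAlong_iff.mp hx).2]
  · intro Q hn hc _ _ a ha har
    have hQ : Q ≤ T' := hn.1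
    have hbar := h.bar_pre hQ
    have hP : LiftCentric θ Z N (preimageAlong θ Q) :=
      ⟨FusionSolvable.preimageAlong_mono hQ, h.Z_le_pre Q, hbar.symm ▸ hc⟩
    obtain ⟨b, hb, hbe⟩ := (hbar.symm ▸ ha : MapFn N (imageAlong θ (preimageAlong θ Q)) a).exists_aut
      (by rw [hbar]; exact har)
    obtain ⟨c, hc', hce⟩ := h.exists_gen_aut hP (hbar.symm ▸ hn) hb
    obtain ⟨l, hl, -, hle⟩ := exists_mapFn_of_aut hP.1 hc'
    refine ⟨l, hl, fun x hx => ?_⟩
    have hm := img_mem_imageAlong (θ := θ) (hP.1.trans h.scT.1) hx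
    rw [hle ⟨x, hx⟩, ← h.pi_down hP.1 c ⟨x, hx⟩ hm, hce]
    exact hbe ⟨_, hm⟩

end LiftSetup

end CfsgLib.FusionLayer
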