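import Cfsg.Agent.Lib.FusionLayer.LiftCons
import Cfsg.Agent.Lib.Fusion.SaturationCriterion
import Cfsg.Agent.Lib.Fusion.TransportNormal

/-!
# The lifted system is weakly normal

A normal subsystem of the factor system of `F` by a central subgroup gives a normal subsystem of `F`
over the preimage of its Sylow subgroup.
-/

set_option autoImplicit false
set_option maxHeartbeats 400000

namespace CfsgLib.FusionLayer

open Cfsg Cfsg.FusionSystem CfsgLib.Fusion CfsgLib.FusionNormal CfsgLib.FusionTransport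

variable {Ω Ω' : Type*} [Group Ω] [Group Ω'] {S : Subgroup Ω}
variable {F : FusionSystem S} {θ : S →* Ω'} {Z : Subgroup Ω} {S' : Subgroup Ω'} {E : FusionSystem S'}
  {T' : Subgroup Ω'} {N : FusionSystem T'} {p : ℕ}

namespace LiftSetup

variable [Finite S] [Fact p.Prime] (h : LiftSetup p F θ Z E N)
include h

/-- A `gen`-conjugate over a fully normalized subgroup. -/
theorem exists_conj_fullyNormalized {P : Subgroup Ω} (hP : LiftCentric θ Z N P) :
    ∃ (Q : Subgroup Ω) (f : Ω → Ω), MapFn h.gen P f ∧ f '' P = (Q : Set Ω) ∧ LiftCentric θ Z N Q ∧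
      N.IsFullyNormalized (imageAlong θ Q) := by
  have := h.finite_T'
  obtain ⟨Qb, hQb, hn⟩ := exists_fullyNormalized (F := N) (h.bar_le hP.1)
  obtain ⟨u, hu, hur⟩ := isConj_iff.mp hQb
  obtain ⟨f, hf, hfu⟩ := h.exists_gen_lift hu
  rw [h.pre_bar (hP.1.trans h.scT.1) hP.2.1] at hf hfu
  have hr := h.image_pre (h.mapFn_gen_F hf) hP.2.1 (fun x hx => (hfu x hx).symm) hur
  exact ⟨preimageAlong θ Qb, f, hf, hr, h.centric_map hP (h.mapFn_gen_F hf) hr, by
    rw [h.bar_pre hn.1]; exact hn⟩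

theorem gen_fullyAutomized {Q : Subgroup Ω} (hQ : LiftCentric θ Z N Q)
    (hn : N.IsFullyNormalized (imageAlong θ Q)) : h.gen.IsFullyAutomized p Q := by
  set T := preimageAlong θ T' with hT
  have hTS : T ≤ S := h.scT.1
  have := finite_of_le hTS
  have := h.finite_T'
  have := finite_mulAut hQ.1
  have := finite_mulAut (h.bar_le hQ.1)
  obtain ⟨⟨-, R, hR⟩, -⟩ := fullyNormalized_good h.pgroup_T' h.normal.1.1 hn
  let π : h.gen.autGroup Q →* N.autGroup (imageAlong θ Q) :=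
    ((h.pi hQ.1).comp (Subgroup.inclusion (h.autGroup_gen_le hQ.1))).codRestrict _
      fun a => h.pi_mem hQ.1 _
  have hπs : Function.Surjective π := fun b => by
    obtain ⟨a, ha, hab⟩ := h.exists_gen_aut hQ hn b.2
    exact ⟨⟨a, ha⟩, Subtype.ext hab⟩
  set W := (autInducedBy T Q).subgroupOf (h.gen.autGroup Q) with hW
  have hWp : IsPGroup p W :=
    (isPGroup_autInducedBy h.pgroup_T Q).comap_subtype
  have hker : π.ker ≤ W := fun a ha => by
    have h1 : h.pi hQ.1 ⟨a, h.autGroup_gen_le hQ.1 a.2⟩ = 1 := congrArg Subtype.val ha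
    exact inn_le_autInducedBy hQ.1 (h.gen_triv_inn Q hQ ⟨a.2, (h.pi_eq_one_iff hQ.1 _).mp h1⟩)
  have hle : (R : Subgroup _).comap π ≤ W := by
    intro a ha
    obtain ⟨c, hc, hce⟩ := h.exists_autInducedBy_bar hQ.1 hQ.2.1 (Subgroup.mem_subgroupOf.mp (hR.le ha))
    have hcg : (c : MulAut Q) ∈ h.gen.autGroup Q := autInducedBy_le_autGroup hQ.1 hc
    have h1 : (⟨c, hcg⟩ : h.gen.autGroup Q)⁻¹ * a ∈ π.ker := by
      rw [MonoidHom.mem_ker, map_mul, map_inv, inv_mul_eq_one]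
      exact Subtype.ext hce
    have h2 := W.mul_mem (show (⟨c, hcg⟩ : h.gen.autGroup Q) ∈ W from hc) (hker h1)
    rwa [mul_inv_cancel_left] at h2
  have hi : ¬ p ∣ W.index := fun hd => R.not_dvd_index <| by
    rw [← Subgroup.index_comap_of_surjective _ hπs]
    exact hd.trans (Subgroup.index_dvd_of_le hle)
  exact ⟨hQ.1, hWp.toSylow hi, rfl⟩

theorem gen_receptive {Q : Subgroup Ω} (hQ : LiftCentric θ Z N Q)
    (hn : N.IsFullyNormalized (imageAlong θ Q)) : h.gen.IsReceptive Q := by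
  set T := preimageAlong θ T' with hT
  have hTS : T ≤ S := h.scT.1
  have := finite_of_le hTS
  have := h.finite_T'
  obtain ⟨-, hNr⟩ := fullyNormalized_good h.pgroup_T' h.normal.1.1 hn
  refine ⟨hQ.1, fun P φ hφ hφr => ?_⟩
  obtain ⟨f, hf, hfe⟩ := mapFn_of_hom hφ
  have hfr : f '' P = (Q : Set Ω) := by rw [MapFn.image_eq_range hfe, hφr]
  obtain ⟨g, hg, hgr, -, hfg⟩ := hf.exists_inv hfr
  have hP : LiftCentric θ Z N P := h.centric_map hQ (h.mapFn_gen_F hg) hgr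
  have hPS : P ≤ S := hP.1.trans hTS
  obtain ⟨hfF, -, u, hu, hue⟩ := h.mapFn_D₀.mp (h.mapFn_gen_D₀ hf)
  set Nφ := extender T P φ with hNφ
  have hNT : Nφ ≤ T := fun x hx => (mem_extender.mp hx).1
  have hPN : P ≤ Nφ := le_extender hP.1 (fun x => hfe x ▸ hf.mem_S x.2)
  have hNn : Nφ ≤ normalizerIn T P := fun x hx => ⟨(mem_extender.mp hx).1, (mem_extender.mp hx).2.1⟩
  have hNb : imageAlong θ Nφ ≤ normalizerIn T' (imageAlong θ P) := by
    rw [← h.bar_normalizer hP.1 hP.2.1]; exact FusionSolvable.imageAlong_mono hNn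
  obtain ⟨w, hw, hwe⟩ := hu.exists_extension hNr (h.bar_image hfF hfr hue)
    (FusionSolvable.imageAlong_mono hPN) hNb fun y hy => by
      obtain ⟨t, ht, htS, rfl⟩ := exists_of_mem_imageAlong hy
      obtain ⟨-, htn, s, hs, hse⟩ := mem_extender.mp ht
      refine ⟨img θ s, h.bar_le le_rfl (img_mem_imageAlong hTS hs), fun z hz => ?_⟩
      obtain ⟨x, hx, hxS, rfl⟩ := exists_of_mem_imageAlong hz
      have hm : t * x * t⁻¹ ∈ P := conj_mem_of_normalizer htn hx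
      have h1 := hse ⟨x, hx⟩ hm
      rw [hfe, hfe] at h1
      rw [← img_conj htS hxS, hue _ hm, hue x hx, h1, img_conj (hTS hs) (hfF.mem_S hx)]
  obtain ⟨l, hl, hlw⟩ := h.exists_gen_lift hw
  rw [h.pre_bar (hNT.trans hTS) (hP.2.1.trans hPN)] at hl hlw
  have hlP : l '' P = (Q : Set Ω) := by
    have h1 := h.image_pre (h.mapFn_gen_F (hl.mono hPN)) hP.2.1
      (fun x hx => (hlw x (hPN hx)).symm) ((Set.image_congr hwe).trans (h.bar_image hfF hfr hue))
    rwa [h.pre_bar (hQ.1.trans hTS) hQ.2.1] at h1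
  -- `f⁻¹ l` is inner on `P`
  have hk : MapFn h.gen P (g ∘ l) := (hl.mono hPN).comp hg fun x hx => mem_of_image hlP hx
  obtain ⟨a, ha, hae⟩ := hk.exists_aut (image_comp hlP hgr)
  have hat : a ∈ trivImg θ P := fun x => by
    have hl' : img θ (l x) = img θ (f x) := by
      rw [hlw x (hPN x.2), hwe _ (img_mem_imageAlong hPS x.2), hue x x.2]
    have h1 := h.img_congr (h.mapFn_gen_F hg) (mem_of_image hlP x.2) (mem_of_image hfr x.2) hl'
    obtain ⟨g', -, -, hg'₁, -⟩ := hf.exists_inv hfr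
    rw [hae]
    show img θ (g (l x)) = _
    rw [h1]
    congr 1
    obtain ⟨y, hy, hye⟩ := exists_of_image hgr x.2
    rw [← hye, hfg y hy]
  obtain ⟨z, hz⟩ := mem_inn.mp (h.gen_triv_inn P hP ⟨ha, hat⟩)
  have hzN : ∀ x ∈ Nφ, (z : Ω)⁻¹ * x * z ∈ Nφ := fun x hx =>
    Subgroup.mul_mem _ (Subgroup.mul_mem _ (Subgroup.inv_mem _ (hPN z.2)) hx) (hPN z.2)
  have hψ : MapFn h.gen Nφ (l ∘ fun x => (z : Ω)⁻¹ * x * (z : Ω)⁻¹⁻¹) :=
    (mapFn_conj hNT (T.inv_mem (hP.1 z.2))).comp hl fun x hx => by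
      rw [inv_inv]; exact hzN x hx
  obtain ⟨ψ, hψm, hψe⟩ := hψ
  refine ⟨ψ, hψm, fun x hx hxN => ?_⟩
  rw [hψe ⟨x, hxN⟩, hfe ⟨x, hx⟩]
  show l ((z : Ω)⁻¹ * x * (z : Ω)⁻¹⁻¹) = f x
  have hy : (z : Ω)⁻¹ * x * (z : Ω)⁻¹⁻¹ ∈ P := by
    rw [inv_inv]; exact P.mul_mem (P.mul_mem (P.inv_mem z.2) hx) z.2
  have h1 := hae ⟨_, hy⟩
  rw [hz] at h1
  have e1 : g (l ((z : Ω)⁻¹ * x * (z : Ω)⁻¹⁻¹)) = x := by
    refine h1.symm.trans ?_
    show (z : Ω) * ((z : Ω)⁻¹ * x * (z : Ω)⁻¹⁻¹) * (z : Ω)⁻¹ = x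
    group
  obtain ⟨y, hy', hye⟩ := exists_of_image hfr (mem_of_image hlP hy)
  rw [← hye] at e1 ⊢
  have e2 : g (f y) = y := by
    obtain ⟨w', hw', rfl⟩ := exists_of_image hgr hy'
    rw [hfg w' hw']
  rw [e2] at e1
  rw [e1]

theorem gen_isSaturated : h.gen.IsSaturated p := by
  set T := preimageAlong θ T' with hT
  have hTS : T ≤ S := h.scT.1
  have := finite_of_le hTS
  have := h.finite_T'
  refine SatCrit.saturated_of_family h.pgroup_T (ℋ := {P | LiftCentric θ Z N P})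
    (fun P hP Q hQ => ?_) (fun P hP => ?_) (fun X hX => h.gen_le_of_good fun P hP a ha hac => ?_)
    fun P hPc hPn => ?_
  · obtain ⟨f, hf, hr⟩ := isConj_iff.mp hQ
    exact h.centric_map hP (h.mapFn_gen_F hf) hr
  · obtain ⟨Q, f, hf, hr, hQ, hn⟩ := h.exists_conj_fullyNormalized hP
    exact ⟨Q, hf.isConj hr, h.gen_fullyAutomized hQ hn, h.gen_receptive hQ hn⟩
  · obtain ⟨f, hf, -, hfe⟩ := exists_mapFn_of_aut hP.1 (h.gen_isGood P hP a ha hac)
    exact (mem_autGroup_iff_mapFn hP.1).mpr ⟨f, hom_subset_iff_mapFn.mp (hX P hP) f hf, hfe⟩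
  · have hPT : P ≤ T := hPc.1
    have hPS := hPT.trans hTS
    have hZP : Z ≤ P := fun z hz => hPc.2 P (isConj_refl hPT)
      (Fusion.mem_centralizerIn'.mpr ⟨h.Z_le_pre T' hz, fun x => by rw [h.Z_comm hz (hPS x.2), mul_inv_cancel_right]⟩)
    have hnc : ¬ N.IsCentric (imageAlong θ P) := fun hc => hPn ⟨hPT, hZP, hc⟩
    obtain ⟨X, hX, hXn⟩ : ∃ X, N.IsConj (imageAlong θ P) X ∧ ¬ centralizerIn T' X ≤ X := by
      by_contra hcon
      exact hnc ⟨h.bar_le hPT, fun X hX => by_contra fun hh => hcon ⟨X, hX, hh⟩⟩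
    obtain ⟨u, hu, hur⟩ := isConj_iff.mp hX
    obtain ⟨f, hf, hfu⟩ := h.exists_gen_lift hu
    rw [h.pre_bar hPS hZP] at hf hfu
    have hr := h.image_pre (h.mapFn_gen_F hf) hZP (fun x hx => (hfu x hx).symm) hur
    set Q := preimageAlong θ X with hQdef
    have hQT : Q ≤ T := FusionSolvable.preimageAlong_mono (IsConj.le_right hX)
    have hQS := hQT.trans hTS
    have := finite_of_le hQS
    have := finite_mulAut hQT
    have hconj : h.gen.IsConj P Q := hf.isConj hr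
    refine ⟨Q, hconj, fun hle => hXn fun y hy => ?_⟩
    obtain ⟨hyT, hyc⟩ := Fusion.mem_centralizerIn'.mp hy
    obtain ⟨t, ht, rfl⟩ := h.exists_img hyT
    have htS := hTS ht
    have hfix : ∀ x ∈ Q, img θ (t * x * t⁻¹) = img θ x := fun x hx => by
      obtain ⟨hxS, hxX⟩ := mem_preimageAlong_iff.mp hx
      rw [img_conj htS hxS]
      exact hyc ⟨_, hxX⟩
    have htn : t ∈ Subgroup.normalizer (Q : Set Ω) := mem_normalizer_of_forall fun x hx => by
      refine mem_preimageAlong_iff.mpr ⟨S.mul_mem (S.mul_mem htS (hQS hx)) (S.inv_mem htS), ?_⟩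
      rw [hfix x hx]
      exact (mem_preimageAlong_iff.mp hx).2
    obtain ⟨c, hc, hce⟩ := exists_autInducedBy (K := T) ht htn
    have hcg : c ∈ h.gen.autGroup Q := autInducedBy_le_autGroup hQT hc
    have hgF : h.gen.autGroup Q ≤ F.autGroup Q := (h.autGroup_gen_le hQT).trans (h.autGroup_D₀_le hQT)
    have hct : c ∈ trivImg θ Q := fun x => by rw [hce]; exact hfix x x.2
    set K := (trivImg θ Q).subgroupOf (h.gen.autGroup Q) with hK
    have hKn : K.Normal := ⟨fun a ha b => (h.triv_conj hQS ⟨hgF a.2, ha⟩ (hgF b.2)).2⟩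
    have hKp : IsPGroup p K := by
      rintro ⟨⟨a, haM⟩, ha⟩
      obtain ⟨k, hk⟩ := h.triv_isPGroup hQS ⟨a, hgF haM, ha⟩
      exact ⟨k, Subtype.ext (Subtype.ext (by simpa using congrArg Subtype.val hk))⟩
    have hcI : c ∈ Inn Q := hle ⟨hc, ⟨c, hcg⟩,
      PCore.le_pCore hKn hKp (show (⟨c, hcg⟩ : h.gen.autGroup Q) ∈ K from hct), rfl⟩
    obtain ⟨q, hq⟩ := mem_inn.mp hcI
    have h1 : (q : Ω)⁻¹ * t ∈ Q := hPc.2 Q hconj (Fusion.mem_centralizerIn'.mpr
      ⟨T.mul_mem (T.inv_mem (hQT q.2)) ht, fun x => by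
        have h2 : t * x * t⁻¹ = (q : Ω) * x * (q : Ω)⁻¹ := (hce x).symm.trans (congrArg Subtype.val (hq x))
        calc (q : Ω)⁻¹ * t * x * ((q : Ω)⁻¹ * t)⁻¹ = (q : Ω)⁻¹ * (t * x * t⁻¹) * q := by group
          _ = (q : Ω)⁻¹ * ((q : Ω) * x * (q : Ω)⁻¹) * q := by rw [h2]
          _ = x := by group⟩)
    have htQ : t ∈ Q := by
      have h2 := Q.mul_mem q.2 h1
      rwa [mul_inv_cancel_left] at h2
    exact (mem_preimageAlong_iff.mp htQ).2

/-- Automorphisms of `F` on `T` carry the lifted system to itself. -/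
theorem gen_transport {a : Ω → Ω} (ha : MapFn F (preimageAlong θ T') a)
    (har : a '' (preimageAlong θ T' : Set Ω) = (preimageAlong θ T' : Set Ω)) {P P' : Subgroup Ω}
    {f : Ω → Ω} (hf : MapFn h.gen P f) (hP : a '' P = (P' : Set Ω)) :
    ∃ χ, MapFn h.gen P' χ ∧ ∀ x ∈ P, χ (a x) = a (f x) := by
  set T := preimageAlong θ T' with hT
  have hTS : T ≤ S := h.scT.1
  have := finite_of_le hTS
  have himg : ∀ {P : Subgroup Ω}, P ≤ T → ∃ P' : Subgroup Ω, a '' P = (P' : Set Ω) ∧ P' ≤ T := fun {P} hP => by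
    obtain ⟨P', -, hP'⟩ := (ha.mono hP).exists_image
    exact ⟨P', hP', fun y hy => by
      obtain ⟨x, hx, rfl⟩ := exists_of_image hP' hy
      exact mem_of_image har (hP hx)⟩
  let M : MapPred h.D₀ :=
    { pred := fun P f => ∀ P' : Subgroup Ω, a '' P = (P' : Set Ω) →
        ∃ χ, MapFn h.gen P' χ ∧ ∀ x ∈ P, χ (a x) = a (f x)
      congr := fun hf e P' hP' => by
        obtain ⟨χ, hχ, he⟩ := hf P' hP'
        exact ⟨χ, hχ, fun x hx => by rw [he x hx, e x hx]⟩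
      conj := fun {P g} hP hg P' hP' => by
        have hP'T : P' ≤ T := fun y hy => by
          obtain ⟨x, hx, rfl⟩ := exists_of_image hP' hy
          exact mem_of_image har (hP hx)
        exact ⟨_, mapFn_conj hP'T (mem_of_image har hg), fun x hx => (ha.map_conj hg (hP hx)).symm⟩
      comp := fun {P Q f g} hf hfp hg hgp hm P' hP' => by
        obtain ⟨Q', hQ', -⟩ := himg hg.le_S
        obtain ⟨χ, hχ, he⟩ := hfp P' hP'
        obtain ⟨ψ, hψ, hψe⟩ := hgp Q' hQ'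
        refine ⟨ψ ∘ χ, hχ.comp hψ fun y hy => ?_, fun x hx => ?_⟩
        · obtain ⟨x, hx, rfl⟩ := exists_of_image hP' hy
          rw [he x hx]
          exact mem_of_image hQ' (hm x hx)
        · show ψ (χ (a x)) = a (g (f x))
          rw [he x hx, hψe _ (hm x hx)]
      inv := fun {P Q f g} hf hfp hr _ hgf Q' hQ' => by
        obtain ⟨P', hP', -⟩ := himg hf.le_S
        obtain ⟨χ, hχ, he⟩ := hfp P' hP'
        have hr' : χ '' P' = (Q' : Set Ω) := by
          rw [← hP', ← hQ', ← hr, Set.image_image, Set.image_image]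
          exact Set.image_congr he
        obtain ⟨ψ, hψ, -, hψ₁, -⟩ := hχ.exists_inv hr'
        refine ⟨ψ, hψ, fun y hy => ?_⟩
        obtain ⟨x, hx, rfl⟩ := exists_of_image hr hy
        rw [← he x hx, hψ₁ _ (mem_of_image hP' hx), hgf x hx] }
  have hgood : h.IsGood M.sub := by
    intro R hR c hc hcc
    obtain ⟨g, hg, -, hge⟩ := exists_mapFn_of_aut hR.1 hc
    refine (mem_autGroup_iff_mapFn hR.1).mpr ⟨g, M.mapFn_sub.mpr ⟨hg, fun R' hR' => ?_⟩, hge⟩
    obtain ⟨φ, hφ, hφe⟩ := ha.mono hR.1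
    obtain ⟨e, he⟩ := exists_equiv hφ
      (SetLike.coe_injective (by rw [← MapFn.image_eq_range hφe, hR']) : φ.range = R')
    have hR'c : LiftCentric θ Z N R' := h.centric_map hR (ha.mono hR.1) hR'
    have hgen := h.gen_isGood R' hR'c _ (h.congr_D₀ hR.1 hφ he hc) (by rwa [MulEquiv.orderOf_eq])
    obtain ⟨χ, hχ, -, hχe⟩ := exists_mapFn_of_aut hR'c.1 hgen
    refine ⟨χ, hχ, fun x hx => ?_⟩
    have e1 : a x = ((e ⟨x, hx⟩ : R') : Ω) := by rw [he, hφe]
    rw [e1, hχe]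
    simp only [MulAut.congr, MulEquiv.coe_mk, Equiv.coe_fn_mk, MulEquiv.trans_apply,
      MulEquiv.symm_apply_apply]
    rw [he, hφe, hge ⟨x, hx⟩]
  exact ((M.mapFn_sub.mp (mapFn_of_le (h.gen_le_of_good hgood) hf)).2) P' hP

/-- The Frattini condition. -/
theorem gen_frattini {P : Subgroup Ω} (hP : P ≤ preimageAlong θ T') {f : Ω → Ω} (hf : MapFn F P f) :
    ∃ a f₀, MapFn F (preimageAlong θ T') a ∧
      a '' (preimageAlong θ T' : Set Ω) = (preimageAlong θ T' : Set Ω) ∧ MapFn h.gen P f₀ ∧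
      ∀ x ∈ P, f x = a (f₀ x) := by
  set T := preimageAlong θ T' with hT
  have hTS : T ≤ S := h.scT.1
  have := finite_of_le hTS
  have := h.finite_T'
  have := h.finite_factor
  let Fr : Subgroup Ω → (Ω → Ω) → Prop := fun P f =>
    ∃ a f₀, MapFn F T a ∧ a '' (T : Set Ω) = (T : Set Ω) ∧ MapFn h.gen P f₀ ∧ ∀ x ∈ P, f x = a (f₀ x)
  have hmono : ∀ {P R f}, Fr P f → R ≤ P → Fr R f := fun ⟨a, l, ha, har, hl, he⟩ hR =>
    ⟨a, l, ha, har, hl.mono hR, fun x hx => he x (hR hx)⟩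
  have hauto : ∀ {a : Ω → Ω}, MapFn F T a → ∀ x ∈ T, a x ∈ T := fun ha x hx =>
    Fusion.PPrimeRes.map_mem_of_sc h.scT ha hx hx
  have hcomp : ∀ {P R f g}, Fr P f → Fr R g → (∀ x ∈ P, f x ∈ R) → Fr P (g ∘ f) := by
    rintro P R f g ⟨a, l, ha, har, hl, he⟩ ⟨b, m, hb, hbr, hm', he'⟩ hm
    obtain ⟨a', ha', ha'r, ha'₁, ha'₂⟩ := ha.exists_inv har
    obtain ⟨R', -, hR'⟩ := (ha'.mono hm'.le_S).exists_image
    obtain ⟨χ, hχ, hχe⟩ := h.gen_transport ha' ha'r hm' hR'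
    have hlR : ∀ x ∈ P, l x ∈ R' := fun x hx => by
      rw [← ha'₁ _ (hl.mem_S hx), ← he x hx]
      exact mem_of_image hR' (hm x hx)
    refine ⟨b ∘ a, χ ∘ l, ha.comp hb fun x hx => mem_of_image har hx, image_comp har hbr,
      hl.comp hχ hlR, fun x hx => ?_⟩
    show g (f x) = b (a (χ (l x)))
    rw [he' _ (hm x hx)]
    have h1 := hχe _ (hm x hx)
    rw [he x hx, ha'₁ _ (hl.mem_S hx)] at h1
    rw [h1, ha'₂ _ (by rw [← he x hx]; exact hm'.mem_S (hm x hx)), he x hx]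
  have hinv : ∀ {P R : Subgroup Ω} {f g : Ω → Ω}, Fr P f → f '' P = (R : Set Ω) →
      (∀ x ∈ P, g (f x) = x) → Fr R g := by
    rintro P R f g ⟨a, l, ha, har, hl, he⟩ hr hgf
    obtain ⟨P₁, -, hP₁⟩ := hl.exists_image
    obtain ⟨l', hl', -, hl'₁, -⟩ := hl.exists_inv hP₁
    obtain ⟨a', ha', ha'r, ha'₁, -⟩ := ha.exists_inv har
    have haR : a '' P₁ = (R : Set Ω) := by
      rw [← hP₁, Set.image_image, ← hr]
      exact Set.image_congr fun x hx => (he x hx).symm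
    obtain ⟨χ, hχ, hχe⟩ := h.gen_transport ha har hl' haR
    refine ⟨a', χ, ha', ha'r, hχ, fun y hy => ?_⟩
    obtain ⟨x, hx, rfl⟩ := exists_of_image hr hy
    rw [hgf x hx, he x hx, hχe _ (mem_of_image hP₁ hx), hl'₁ x hx, ha'₁ _ (hl.le_S hx)]
  suffices H : ∀ (m : ℕ) (P : Subgroup Ω) (f : Ω → Ω), Nat.card T - Nat.card P < m → P ≤ T →
      MapFn F P f → Fr P f from H _ P f (Nat.lt_succ_self _) hP hf
  clear hP hf
  intro m
  induction m with
  | zero => intro P f hm; omega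
  | succ m ih =>
  intro P f hm hP hf
  have hPS := hP.trans hTS
  by_cases hZ : Z ≤ P
  swap
  · obtain ⟨g, hg, hgP, -⟩ := mapFn_central h.central hf
    have hPZ : P ⊔ Z ≤ T := sup_le hP (h.Z_le_pre T')
    have hlt := card_lt_card (hPZ.trans hTS)
      (lt_of_le_of_ne le_sup_left fun he => hZ (sup_eq_left.mp he.symm))
    have := Subgroup.card_le_of_le hPZ
    obtain ⟨a, l, ha, har, hl, he⟩ := hmono (ih _ g (by omega) hPZ hg) le_sup_left
    exact ⟨a, l, ha, har, hl, fun x hx => (hgP x hx).symm.trans (he x hx)⟩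
  -- a factor of `f`
  obtain ⟨v, hv, hve⟩ := mapFn_induce_any h.pgroup h.sat h.scZ h.factor hf
  have hve' : ∀ x ∈ P, v (img θ x) = img θ (f x) := fun x hx => by
    obtain ⟨h1, h2⟩ := hve ⟨x, hPS hx⟩ hx
    rw [img_eq (hPS hx), img_eq h1]; exact h2
  obtain ⟨ab, n, hab, habr, hn, hne⟩ := mapFn_frattini h.normal.1.2.2 (h.bar_le hP) hv
  obtain ⟨a, ha, hak⟩ := mapFn_factor h.factor hab
  have hae : ∀ x ∈ T, img θ (a x) = ab (img θ x) := fun x hx => by
    obtain ⟨h1, h2⟩ := hak ⟨x, hTS hx⟩ hx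
    rw [img_eq h1, img_eq (hTS hx)]; exact h2.symm
  have har : a '' (T : Set Ω) = (T : Set Ω) := ha.image_eq_of_maps hTS (hauto ha) le_rfl
  obtain ⟨l, hl, hle⟩ := h.exists_gen_lift hn
  rw [h.pre_bar hPS hZ] at hl hle
  have hal : Fr P (a ∘ l) := ⟨a, l, ha, har, hl, fun _ _ => rfl⟩
  have halm : MapFn F P (a ∘ l) := (h.mapFn_gen_F hl).comp ha fun x hx => hl.mem_S hx
  have halI : ∀ x ∈ P, img θ (a (l x)) = img θ (f x) := fun x hx => by
    rw [hae _ (hl.mem_S hx), hle x hx, ← hne _ (img_mem_imageAlong hPS hx), hve' x hx]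
  obtain ⟨R, -, hR⟩ := halm.exists_image
  have hfR : f '' P = (R : Set Ω) := by
    obtain ⟨R₀, hR₀S, hR₀⟩ := hf.exists_image
    have e1 := h.bar_image hf hR₀ hve'
    have h1 := h.image_pre hf hZ hve' e1
    have h2 := h.image_pre halm hZ
      (fun x hx => (hve' x hx).trans (halI x hx).symm) e1
    rw [h1, ← h2, hR]
  obtain ⟨g₀, hg₀, hg₀r, hg₀₁, hg₀₂⟩ := halm.exists_inv hR
  have hk : MapFn F P (g₀ ∘ f) := hf.comp hg₀ fun x hx => mem_of_image hfR hx
  have hkr : (g₀ ∘ f) '' P = (P : Set Ω) := image_comp hfR hg₀r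
  suffices hkFr : Fr P (g₀ ∘ f) by
    obtain ⟨b, m', hb, hbr, hm', he⟩ := hcomp hkFr hal fun x hx => mem_of_image hkr hx
    refine ⟨b, m', hb, hbr, hm', fun x hx => Eq.trans ?_ (he x hx)⟩
    show f x = a (l (g₀ (f x)))
    exact (hg₀₂ _ (mem_of_image hfR hx)).symm
  by_cases hPT : P = T
  · subst hPT
    exact ⟨g₀ ∘ f, id, hk, hkr, mapFn_id le_rfl, fun _ _ => rfl⟩
  obtain ⟨b, hb, hbe⟩ := hk.exists_aut hkr
  have hbt : b ∈ trivImg θ P := fun x => by
    rw [hbe]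
    show img θ (g₀ (f x)) = _
    have h1 := h.img_congr hg₀ (mem_of_image hfR x.2) (mem_of_image hR x.2) (halI x x.2).symm
    rw [h1]
    congr 1
    exact hg₀₁ x x.2
  -- move to a fully normalized subgroup
  obtain ⟨P₁, g, hP₁n, hg, hgr, -⟩ := exists_fullyNormalized_mapFn h.pgroup h.sat hPS
  have hP₁T : P₁ ≤ T := fun y hy => by
    obtain ⟨x, hx, rfl⟩ := exists_of_image hgr hy
    exact Fusion.PPrimeRes.map_mem_of_sc h.scT (hg.mono (le_normalizerIn hPS)) hx (hP hx)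
  have hPN : P ≤ normalizerIn T P := le_normalizerIn hP
  have hNS : normalizerIn T P ≤ normalizerIn S P := fun x hx => ⟨hTS hx.1, hx.2⟩
  have hlt := card_lt_card (normalizerIn_le.trans hTS)
    (Fusion.lt_normalizerIn h.pgroup_T le_rfl (lt_of_le_of_ne hP hPT))
  have hle' := Subgroup.card_le_of_le (normalizerIn_le : normalizerIn T P ≤ T)
  have hgFr : Fr P g := hmono (ih _ g (by omega) normalizerIn_le (hg.mono hNS)) hPN
  obtain ⟨φ, hφ, hφe⟩ := (hg.mono (le_normalizerIn hPS))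
  obtain ⟨e, he⟩ := exists_equiv hφ
    (SetLike.coe_injective (by rw [← MapFn.image_eq_range hφe, hgr]) : φ.range = P₁)
  obtain ⟨hba, -⟩ := fullyNormalized_good h.pgroup h.sat hP₁n
  have hb₁ := h.triv_le_autInducedBy hba (h.congr_triv hφ he ⟨hb, hbt⟩)
  obtain ⟨s, hs, hse⟩ := mem_autInducedBy.mp hb₁
  have hcs : Fr P₁ fun y => s * y * s⁻¹ := by
    refine ⟨fun y => s * y * s⁻¹, id, mapFn_conj hTS hs, ?_, mapFn_id hP₁T, fun _ _ => rfl⟩
    exact (mapFn_conj (F := F) hTS hs).image_eq_of_maps hTS (fun x hx => h.conj_mem_T hs hx) le_rfl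
  obtain ⟨g', -, -, hg'₁, -⟩ := (hg.mono (le_normalizerIn hPS)).exists_inv hgr
  have hg'Fr : Fr P₁ g' := hinv hgFr hgr hg'₁
  have hgm : ∀ x ∈ P, g x ∈ P₁ := fun x hx => mem_of_image hgr hx
  have hkey : ∀ x : P, s * g x * s⁻¹ = g ((b x : P) : Ω) := fun x => by
    have h1 := hse (e x)
    simp only [MulAut.congr, MulEquiv.coe_mk, Equiv.coe_fn_mk, MulEquiv.trans_apply,
      MulEquiv.symm_apply_apply] at h1
    rw [he, he, hφe, hφe] at h1
    exact h1.symm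
  obtain ⟨c, n', hc, hcr, hn', hne'⟩ := hcomp (hcomp hgFr hcs hgm) hg'Fr fun x hx => by
    show s * g x * s⁻¹ ∈ P₁
    rw [hkey ⟨x, hx⟩]
    exact hgm _ (b _).2
  refine ⟨c, n', hc, hcr, hn', fun x hx => ?_⟩
  rw [← hne' x hx]
  show g₀ (f x) = g' (s * g x * s⁻¹)
  rw [hkey ⟨x, hx⟩, hg'₁ _ (b _).2, hbe]
  rfl

/-- The lifted system is weakly normal. -/
theorem gen_isWeaklyNormalIn : h.gen.IsWeaklyNormalIn F p :=
  ⟨h.gen_isSaturated, h.sat, isInvariantIn_of_mapFn h.gen_sub h.scT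
    (fun _ _ _ _ hf ha har hP => h.gen_transport ha har hf hP) fun _ _ hP hf => h.gen_frattini hP hf⟩

/-- Its `p'`-residual is normal in `F`. -/
theorem res_gen_isNormalIn : (Fusion.PPrimeRes.res p h.gen).IsNormalIn F p :=
  Fusion.PPrimeRes.res_isNormalIn h.pgroup h.gen_isWeaklyNormalIn

/-- If the lifted system is all of `F`, so is `N` all of the factor system. -/
theorem mapFn_of_gen_eq (hF : ∀ P f, MapFn F P f → MapFn h.gen P f) {Q : Subgroup Ω'} {u : Ω' → Ω'}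
    (hu : MapFn E Q u) : MapFn N Q u := by
  obtain ⟨k, hk, hku⟩ := mapFn_factor h.factor hu
  obtain ⟨-, hle, v, hv, hve⟩ := h.mapFn_D₀.mp (h.mapFn_gen_D₀ (hF _ _ hk))
  have hQ : Q ≤ θ.range := h.factor.2.2.1.symm ▸ hu.le_S
  rw [FusionFactor.imageAlong_preimageAlong hQ] at hv
  refine hv.congr fun y hy => ?_
  obtain ⟨x, hx, hxQ, e⟩ := FusionFactor.exists_preimage hQ ⟨y, hy⟩
  obtain ⟨h1, h2⟩ := hku ⟨x, hx⟩ hxQ
  have e' : img θ x = y := (img_eq hx).trans e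
  rw [← e', hve x hxQ, img_eq h1, img_eq hx, h2]

end LiftSetup

end CfsgLib.FusionLayer
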