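import Cfsg.Agent.Lib.FusionLayer.LiftGen
import Cfsg.Agent.Lib.Fusion.SaturationCriterion

/-!
# Restrictions of lifted maps between subgroups of a normalizer

Lifted maps on subgroups `U` with `Q < U ≤ N_T(Q)` stabilizing `Q` restrict into the cut group at `Q`.
-/

set_option autoImplicit false
set_option maxHeartbeats 800000

namespace CfsgLib.FusionLayer

open Cfsg Cfsg.FusionSystem CfsgLib.Fusion CfsgLib.FusionNormal CfsgLib.FusionTransport

variable {Ω Ω' : Type*} [Group Ω] [Group Ω'] {S : Subgroup Ω}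
variable {F : FusionSystem S} {θ : S →* Ω'} {Z : Subgroup Ω} {S' : Subgroup Ω'} {E : FusionSystem S'}
  {T' : Subgroup Ω'} {N : FusionSystem T'} {p : ℕ}

/-- `g` agrees on `Q` with an element of `A`. -/
def InA {Q : Subgroup Ω} (A : Subgroup (MulAut Q)) (g : Ω → Ω) : Prop :=
  ∃ a ∈ A, ∀ x : Q, ((a x : Q) : Ω) = g x

theorem InA.congr {Q : Subgroup Ω} {A : Subgroup (MulAut Q)} {f g : Ω → Ω} (hf : InA A f)
    (e : ∀ x ∈ Q, f x = g x) : InA A g := by
  obtain ⟨a, ha, hae⟩ := hf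
  exact ⟨a, ha, fun x => (hae x).trans (e x x.2)⟩

theorem InA.comp {Q : Subgroup Ω} {A : Subgroup (MulAut Q)} {f g : Ω → Ω} (hf : InA A f)
    (hg : InA A g) : InA A (g ∘ f) := by
  obtain ⟨a, ha, hae⟩ := hf
  obtain ⟨b, hb, hbe⟩ := hg
  exact ⟨b * a, A.mul_mem hb ha, fun x => by rw [MulAut.mul_apply, hbe, hae]; rfl⟩

theorem InA.inv {Q : Subgroup Ω} {A : Subgroup (MulAut Q)} {f g : Ω → Ω} (hf : InA A f)
    (hgf : ∀ x ∈ Q, g (f x) = x) : InA A g := by
  obtain ⟨a, ha, hae⟩ := hf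
  refine ⟨a⁻¹, A.inv_mem ha, fun x => ?_⟩
  obtain ⟨y, rfl⟩ := a.surjective x
  rw [MulAut.inv_apply_self, hae, hgf _ y.2]

theorem conj_map_normalizer {G : Type*} [Group G] {Y Y₁ : Subgroup G} {z a : G}
    (hz : Y.map (MulAut.conj z).toMonoidHom = Y₁) (ha : a ∈ Subgroup.normalizer (Y : Set G)) :
    z * a * z⁻¹ ∈ Subgroup.normalizer (Y₁ : Set G) := by
  subst hz
  rw [Subgroup.mem_normalizer_iff]
  intro n
  constructor
  · rintro ⟨y, hy, rfl⟩
    exact ⟨a * y * a⁻¹, (Subgroup.mem_normalizer_iff.mp ha y).mp hy, by simp [mul_assoc]⟩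
  · rintro ⟨y, hy, hye⟩
    refine ⟨a⁻¹ * y * a, (Subgroup.mem_normalizer_iff.mp ha _).mpr (by simpa [mul_assoc] using hy), ?_⟩
    simp only [MulEquiv.coe_toMonoidHom, MulAut.conj_apply] at hye ⊢
    calc z * (a⁻¹ * y * a) * z⁻¹ = (z * a⁻¹ * z⁻¹) * (z * y * z⁻¹) * (z * a * z⁻¹) := by group
      _ = n := by rw [hye]; group

namespace LiftSetup

variable [Finite S] [Fact p.Prime] (h : LiftSetup p F θ Z E N)
include h

/-- `t ∈ N_T(Q)` lies in `U` as soon as it acts on the image of `Q` like an element of `U`. -/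
theorem mem_of_induced {Q U : Subgroup Ω} (hQ : LiftCentric θ Z N Q) (hQU : Q ≤ U)
    (hU : U ≤ normalizerIn (preimageAlong θ T') Q) {t : Ω} (ht : t ∈ normalizerIn (preimageAlong θ T') Q)
    {a : MulAut (imageAlong θ Q)}
    (hat : ∀ y : imageAlong θ Q, ((a y : imageAlong θ Q) : Ω') = img θ t * y * (img θ t)⁻¹)
    (ha : a ∈ autInducedBy (imageAlong θ U) (imageAlong θ Q)) : t ∈ U := by
  have hUT : U ≤ preimageAlong θ T' := hU.trans normalizerIn_le
  obtain ⟨_, hv, hve⟩ := mem_autInducedBy.mp ha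
  obtain ⟨v, hv', hvS, rfl⟩ := exists_of_mem_imageAlong hv
  have htS := h.scT.1 ht.1
  have h1 : v⁻¹ * t ∈ Q := h.mem_of_centralizes hQ
    (Subgroup.mul_mem _ (Subgroup.inv_mem _ (hUT hv')) ht.1) fun x hx => by
      have hxS := hQ.1.trans h.scT.1 hx
      rw [img_conj (S.mul_mem (S.inv_mem hvS) htS) hxS, img_mul (S.inv_mem hvS) htS, img_inv hvS]
      have h2 := (hat ⟨_, img_mem_imageAlong (hQ.1.trans h.scT.1) hx⟩).symm.trans
        (hve ⟨_, img_mem_imageAlong (hQ.1.trans h.scT.1) hx⟩)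
      calc (img θ v)⁻¹ * img θ t * img θ x * ((img θ v)⁻¹ * img θ t)⁻¹
          = (img θ v)⁻¹ * (img θ t * img θ x * (img θ t)⁻¹) * img θ v := by group
        _ = img θ x := by rw [h2]; group
  have h3 := U.mul_mem hv' (hQU h1)
  rwa [mul_inv_cancel_left] at h3

variable {Q : Subgroup Ω} (hQ : LiftCentric θ Z N Q) (hn : N.IsFullyNormalized (imageAlong θ Q))
  {A : Subgroup (MulAut Q)} (hAW : autInducedBy (preimageAlong θ T') Q ≤ A)
  (hAp : ∀ a ∈ h.D₀.autGroup Q, (orderOf a).Coprime p → a ∈ A)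

include hQ hn in
/-- A subgroup of `N_T(Q)` is moved into the maximal position by a lifted map on its normalizer. -/
theorem exists_push {U : Subgroup Ω} (hQU : Q ≤ U) (hU : U ≤ normalizerIn (preimageAlong θ T') Q)
    {Y₁ : Subgroup (MulAut (imageAlong θ Q))}
    (hmax : ∀ R : Subgroup (MulAut (imageAlong θ Q)), IsPGroup p R →
      R ≤ N.autGroup (imageAlong θ Q) ⊓ Subgroup.normalizer (Y₁ : Set (MulAut (imageAlong θ Q))) →
      autInducedBy T' (imageAlong θ Q) ⊓ Subgroup.normalizer (Y₁ : Set (MulAut (imageAlong θ Q))) ≤ R →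
      R ≤ autInducedBy T' (imageAlong θ Q))
    {z : MulAut (imageAlong θ Q)} (hz : z ∈ N.autGroup (imageAlong θ Q))
    (hzY : (autInducedBy (imageAlong θ U) (imageAlong θ Q)).map (MulAut.conj z).toMonoidHom = Y₁) :
    ∃ (η : Ω → Ω) (U₁ : Subgroup Ω),
      MapFn h.gen (normalizerIn (normalizerIn (preimageAlong θ T') Q) U) η ∧
      η '' Q = (Q : Set Ω) ∧ η '' U = (U₁ : Set Ω) ∧ U₁ ≤ normalizerIn (preimageAlong θ T') Q ∧
      autInducedBy (imageAlong θ U₁) (imageAlong θ Q) = Y₁ := by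
  set T := preimageAlong θ T' with hT
  set Γ := N.autGroup (imageAlong θ Q) with hΓ
  set W := autInducedBy T' (imageAlong θ Q) with hW
  set Y := autInducedBy (imageAlong θ U) (imageAlong θ Q) with hY
  have hTS : T ≤ S := h.scT.1
  have := finite_of_le hTS
  have := h.finite_T'
  have hQT : Q ≤ T := hQ.1
  have hQS : Q ≤ S := hQT.trans hTS
  have hQbT : (imageAlong θ Q) ≤ T' := h.bar_le hQT
  have := finite_mulAut hQbT
  have hUT : U ≤ T := hU.trans normalizerIn_le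
  have := finite_of_le (hUT.trans hTS)
  have hWΓ : W ≤ Γ := autInducedBy_le_autGroup hQbT
  have hWp : IsPGroup p W := isPGroup_autInducedBy h.pgroup_T' (imageAlong θ Q)
  obtain ⟨-, hNr⟩ := fullyNormalized_good h.pgroup_T' h.normal.1.1 hn
  -- move `W ∩ N(Y)` into `W`
  set R₀ := (W ⊓ Subgroup.normalizer (Y : Set (MulAut (imageAlong θ Q)))).map (MulAut.conj z).toMonoidHom with hR₀
  set G := Γ ⊓ Subgroup.normalizer (Y₁ : Set (MulAut (imageAlong θ Q))) with hG
  have hR₀G : R₀ ≤ G := by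
    rintro _ ⟨a, ⟨ha, ha'⟩, rfl⟩
    exact ⟨Γ.mul_mem (Γ.mul_mem hz (hWΓ ha)) (Γ.inv_mem hz), conj_map_normalizer hzY ha'⟩
  have hVp : IsPGroup p ↥(W ⊓ Subgroup.normalizer (Y₁ : Set (MulAut (imageAlong θ Q)))) := hWp.to_le inf_le_left
  obtain ⟨P₀, hP₀⟩ := (((hWp.to_le inf_le_left).map _).comap_subtype (K := G) :
    IsPGroup p (R₀.subgroupOf G)).exists_le_sylow
  obtain ⟨P₁, hP₁⟩ := (hVp.comap_subtype (K := G)).exists_le_sylow
  obtain ⟨m, hm⟩ := MulAction.exists_smul_eq G P₀ P₁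
  have hP₁W : (P₁ : Subgroup G).map G.subtype ≤ W := hmax _ (P₁.2.map _) (Subgroup.map_subtype_le _)
    fun a ha => ⟨⟨a, hWΓ ha.1, ha.2⟩, hP₁ ha, rfl⟩
  have hmz : ∀ a ∈ W ⊓ Subgroup.normalizer (Y : Set (MulAut (imageAlong θ Q))),
      ((m : MulAut (imageAlong θ Q)) * z) * a * ((m : MulAut (imageAlong θ Q)) * z)⁻¹ ∈ W := by
    intro a ha
    have h1 : m * ⟨z * a * z⁻¹, hR₀G ⟨a, ha, rfl⟩⟩ * m⁻¹ ∈ (P₁ : Subgroup G) := by
      rw [← hm, Sylow.coe_subgroup_smul]
      exact Subgroup.smul_mem_pointwise_smul _ (MulAut.conj m) _ (hP₀ ⟨a, ha, rfl⟩)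
    simpa [mul_assoc] using hP₁W ⟨_, h1, rfl⟩
  set z' := (m : MulAut (imageAlong θ Q)) * z with hz'def
  have hz' : z' ∈ Γ := Γ.mul_mem m.2.1 hz
  have hz'Y : Y.map (MulAut.conj z').toMonoidHom = Y₁ := by
    have e1 : Y₁.map (MulAut.conj (m : MulAut (imageAlong θ Q))).toMonoidHom = Y₁ := by
      ext a
      constructor
      · rintro ⟨b, hb, rfl⟩
        exact (Subgroup.mem_normalizer_iff.mp m.2.2 b).mp hb
      · intro ha
        refine ⟨(m : MulAut (imageAlong θ Q))⁻¹ * a * m, (Subgroup.mem_normalizer_iff.mp m.2.2 _).mpr ?_, ?_⟩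
        · simpa [mul_assoc] using ha
        · simp [mul_assoc]
    conv_rhs => rw [← e1, ← hzY, Subgroup.map_map]
    rw [hz'def, map_mul]
    rfl
  -- extend
  obtain ⟨u, hu, hur, hue⟩ := exists_mapFn_of_aut hQbT hz'
  set M := normalizerIn (normalizerIn T Q) U with hM
  have hMT : M ≤ T := normalizerIn_le.trans normalizerIn_le
  have hMN : M ≤ normalizerIn T Q := normalizerIn_le
  have hUM : U ≤ M := le_normalizerIn hU
  have hQM : Q ≤ M := hQU.trans hUM
  have hMb : imageAlong θ M ≤ normalizerIn T' (imageAlong θ Q) := by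
    rw [← h.bar_normalizer hQT hQ.2.1]; exact FusionSolvable.imageAlong_mono hMN
  obtain ⟨w, hw, hwe⟩ := hu.exists_extension hNr hur (FusionSolvable.imageAlong_mono hQM) hMb
    fun g hg => by
      obtain ⟨c, hc, hce⟩ := exists_autInducedBy (K := T') (hMb hg).1 (hMb hg).2
      have hcN : c ∈ Subgroup.normalizer (Y : Set (MulAut (imageAlong θ Q))) := by
        obtain ⟨t, ht, htS, rfl⟩ := exists_of_mem_imageAlong hg
        haveI : Finite Y := inferInstance
        refine mem_normalizer_of_forall fun b hb => ?_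
        obtain ⟨_, hv, hve⟩ := mem_autInducedBy.mp hb
        obtain ⟨v, hv', hvS, rfl⟩ := exists_of_mem_imageAlong hv
        refine mem_autInducedBy.mpr ⟨img θ (t * v * t⁻¹),
          img_mem_imageAlong (hUT.trans hTS) (conj_mem_of_normalizer ht.2 hv'), fun y => ?_⟩
        have h1 := hce (c⁻¹ y)
        rw [MulAut.apply_inv_self] at h1
        rw [MulAut.mul_apply, MulAut.mul_apply, hce, hve, img_conj htS hvS, h1]
        group
      obtain ⟨s, hs, hse⟩ := mem_autInducedBy.mp (hmz c ⟨hc, hcN⟩)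
      refine ⟨s, hs, fun y hy => ?_⟩
      have h2 := hse (z' ⟨y, hy⟩)
      rw [MulAut.mul_apply, MulAut.mul_apply, MulAut.inv_apply_self, ← hue, ← hue] at h2
      rw [← h2, hce]
  obtain ⟨η, hη, hηw⟩ := h.exists_gen_lift hw
  rw [h.pre_bar (hMT.trans hTS) (hQ.2.1.trans hQM)] at hη hηw
  have hηQ : η '' Q = (Q : Set Ω) := by
    have h1 := h.image_pre ((h.mapFn_gen_F hη).mono hQM) hQ.2.1 (fun x hx => (hηw x (hQM hx)).symm)
      (R' := (imageAlong θ Q)) ((Set.image_congr hwe).trans hur)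
    rwa [h.pre_bar hQS hQ.2.1] at h1
  obtain ⟨U₁, -, hU₁⟩ := (hη.mono hUM).exists_image
  have hU₁N : U₁ ≤ normalizerIn T Q := fun y hy => by
    obtain ⟨x, hx, rfl⟩ := exists_of_image hU₁ hy
    exact hη.mem_normalizerIn hQM hηQ (hUM hx) (hU hx).2
  have hU₁S : U₁ ≤ S := (hU₁N.trans normalizerIn_le).trans hTS
  refine ⟨η, U₁, hη, hηQ, hU₁, hU₁N, ?_⟩
  have key : ∀ x ∈ U, ∀ b b' : MulAut (imageAlong θ Q), (∀ y : (imageAlong θ Q), ((b y : (imageAlong θ Q)) : Ω') = img θ x * y * (img θ x)⁻¹) →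
      (∀ y : (imageAlong θ Q), ((b' y : (imageAlong θ Q)) : Ω') = img θ (η x) * y * (img θ (η x))⁻¹) →
      z' * b * z'⁻¹ = b' := by
    intro x hx b b' hb hb'
    refine MulEquiv.ext fun y => Subtype.ext ?_
    obtain ⟨y, rfl⟩ := z'.surjective y
    have hxM : img θ x ∈ imageAlong θ M := img_mem_imageAlong (hMT.trans hTS) (hUM hx)
    have hyM : ∀ y : (imageAlong θ Q), (y : Ω') ∈ imageAlong θ M := fun y => FusionSolvable.imageAlong_mono hQM y.2
    rw [hb', hηw x (hUM hx), MulAut.mul_apply, MulAut.mul_apply, MulAut.inv_apply_self, ← hue, ← hue,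
      hb, ← hwe _ y.2, ← hw.map_conj hxM (hyM y), hwe _ (by rw [← hb]; exact (b y).2)]
  rw [← hz'Y]
  ext a
  constructor
  · intro ha
    obtain ⟨_, hv, hve⟩ := mem_autInducedBy.mp ha
    obtain ⟨v, hv', -, rfl⟩ := exists_of_mem_imageAlong hv
    obtain ⟨x, hx, rfl⟩ := exists_of_image hU₁ hv'
    obtain ⟨b, hb, hbe⟩ := exists_autInducedBy (K := imageAlong θ U)
      (img_mem_imageAlong (hUT.trans hTS) hx) (hMb (img_mem_imageAlong (hMT.trans hTS) (hUM hx))).2
    exact ⟨b, hb, key x hx b a hbe hve⟩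
  · rintro ⟨b, hb, rfl⟩
    obtain ⟨_, hv, hve⟩ := mem_autInducedBy.mp hb
    obtain ⟨x, hx, -, rfl⟩ := exists_of_mem_imageAlong hv
    have hm1 : η x ∈ U₁ := mem_of_image hU₁ hx
    obtain ⟨b', hb', hb'e⟩ := exists_autInducedBy (K := imageAlong θ U₁) (img_mem_imageAlong hU₁S hm1)
      (show img θ (η x) ∈ Subgroup.normalizer ((imageAlong θ Q) : Set Ω') from by
        have := h.bar_normalizer hQT hQ.2.1 ▸ img_mem_imageAlong (θ := θ) (normalizerIn_le.trans hTS) (hU₁N hm1)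
        exact this.2)
    show z' * b * z'⁻¹ ∈ _
    rw [key x hx b b' hve hb'e]
    exact hb'

include hQ hAW hAp in
/-- Lifted automorphisms of a subgroup in maximal position restrict into `A`. -/
theorem inA_of_aut {U : Subgroup Ω} (hQU : Q ≤ U) (hU : U ≤ normalizerIn (preimageAlong θ T') Q)
    (hIH : h.gen.autGroup U ⊓ trivImg θ U ≤ Inn U)
    (hmax : ∀ R : Subgroup (MulAut (imageAlong θ Q)), IsPGroup p R →
      R ≤ N.autGroup (imageAlong θ Q) ⊓ Subgroup.normalizer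
        (autInducedBy (imageAlong θ U) (imageAlong θ Q) : Set (MulAut (imageAlong θ Q))) →
      autInducedBy T' (imageAlong θ Q) ⊓ Subgroup.normalizer
        (autInducedBy (imageAlong θ U) (imageAlong θ Q) : Set (MulAut (imageAlong θ Q))) ≤ R →
      R ≤ autInducedBy T' (imageAlong θ Q))
    {g : Ω → Ω} (hg : MapFn h.gen U g) (hgU : g '' U = (U : Set Ω)) (hgQ : g '' Q = (Q : Set Ω)) :
    InA A g := by
  set T := preimageAlong θ T' with hT
  set Γ := N.autGroup (imageAlong θ Q) with hΓ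
  set W := autInducedBy T' (imageAlong θ Q) with hW
  set Y := autInducedBy (imageAlong θ U) (imageAlong θ Q) with hY
  have hTS : T ≤ S := h.scT.1
  have := finite_of_le hTS
  have := h.finite_T'
  have hQT : Q ≤ T := hQ.1
  have hQS : Q ≤ S := hQT.trans hTS
  have hQbT : (imageAlong θ Q) ≤ T' := h.bar_le hQT
  have := finite_mulAut hQbT
  have hUT : U ≤ T := hU.trans normalizerIn_le
  have hUS : U ≤ S := hUT.trans hTS
  have := finite_of_le hUS
  have := finite_of_le hQS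
  have := finite_mulAut hUS
  set B := h.gen.autGroup U ⊓ SatCrit.resSet hQU (⊤ : Subgroup (MulAut Q)) with hB
  have hres : ∀ b : B, ∃ o : h.D₀.autGroup Q, Restr hQU (b : MulAut U) (o : MulAut Q) := by
    rintro ⟨b, hb, o, -, hoe⟩
    obtain ⟨f, hf, -, hfe⟩ := exists_mapFn_of_aut hUT hb
    refine ⟨⟨o, (mem_autGroup_iff_mapFn hQT).mpr ⟨f, (h.mapFn_gen_D₀ hf).mono hQU, fun x => ?_⟩⟩, hoe⟩
    rw [hfe ⟨x, hQU x.2⟩]
    exact hoe x
  choose o ho using hres
  let ores : B →* h.D₀.autGroup Q := MonoidHom.mk' o fun a b =>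
    Subtype.ext ((ho (a * b)).unique ((ho a).mul (ho b)))
  let ρ : B →* MulAut (imageAlong θ Q) := (h.pi hQT).comp ores
  set B' := (h.gen.autGroup U ⊓ SatCrit.resSet hQU A).subgroupOf B with hB'
  have hB'mem : ∀ b : B, (o b : MulAut Q) ∈ A → b ∈ B' := fun b hb =>
    Subgroup.mem_subgroupOf.mpr ⟨b.2.1, _, hb, ho b⟩
  -- the image normalizes `Y`
  have hρY : ∀ b : B, ρ b ∈ Γ ⊓ Subgroup.normalizer (Y : Set (MulAut (imageAlong θ Q))) := by
    intro b
    refine ⟨h.pi_mem hQT _, ?_⟩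
    obtain ⟨f, hf, hfr, hfe⟩ := exists_mapFn_of_aut hUT b.2.1
    haveI : Finite Y := inferInstance
    refine mem_normalizer_of_forall fun a ha => ?_
    obtain ⟨_, hv, hve⟩ := mem_autInducedBy.mp ha
    obtain ⟨v, hv', hvS, rfl⟩ := exists_of_mem_imageAlong hv
    refine mem_autInducedBy.mpr ⟨img θ (f v), img_mem_imageAlong hUS (mem_of_image hfr hv'), fun y => ?_⟩
    obtain ⟨y, rfl⟩ := (ρ b).surjective y
    obtain ⟨y, hy⟩ := y
    obtain ⟨x, hx, hxS, rfl⟩ := exists_of_mem_imageAlong hy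
    rw [MulAut.mul_apply, MulAut.mul_apply, MulAut.inv_apply_self]
    have hd : ∀ (q : Ω) (hq : q ∈ Q) (hm : img θ q ∈ (imageAlong θ Q)),
        ((ρ b ⟨img θ q, hm⟩ : (imageAlong θ Q)) : Ω') = img θ (f q) := fun q hq hm => by
      show ((h.pi hQT (o b) ⟨img θ q, hm⟩ : (imageAlong θ Q)) : Ω') = _
      rw [h.pi_down hQT (o b) ⟨q, hq⟩ hm, ← ho b ⟨q, hq⟩, ← hfe]
    have hvx : v * x * v⁻¹ ∈ Q := conj_mem_of_normalizer (hU hv').2 hx
    have e1 : a ⟨img θ x, hy⟩ = ⟨img θ (v * x * v⁻¹), img_mem_imageAlong hQS hvx⟩ :=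
      Subtype.ext ((hve _).trans (img_conj hvS hxS).symm)
    rw [e1, hd _ hvx, hd x hx, hf.map_conj hv' (hQU hx),
      img_conj (hUS (mem_of_image hfr hv')) (h.scT.1 (hf.mem_S (hQU hx)))]
  -- the kernel
  have hkerB : ∀ b : B, ρ b = 1 → b ∈ B' := by
    intro b hb
    refine hB'mem b (hAW ?_)
    have hbD := h.autGroup_gen_le hUT b.2.1
    obtain ⟨c, hc, hcd⟩ := h.exists_down hbD hUT
    obtain ⟨v, hv, -, hve⟩ := exists_mapFn_of_aut (h.bar_le hUT) hc
    have hUb : imageAlong θ U ≤ normalizerIn T' (imageAlong θ Q) := by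
      rw [← h.bar_normalizer hQT hQ.2.1]; exact FusionSolvable.imageAlong_mono hU
    obtain ⟨zb, hzb, hzv⟩ := exists_conj_of_fixed h.pgroup_T' h.normal.1.1 hQ.2.2
      (FusionSolvable.imageAlong_mono hQU) hUb hv fun y hy => by
        obtain ⟨x, hx, -, rfl⟩ := exists_of_mem_imageAlong hy
        have hm := img_mem_imageAlong (θ := θ) hUS (hQU hx)
        rw [hve ⟨_, hm⟩, hcd ⟨x, hQU hx⟩ hm, ho b ⟨x, hx⟩]
        exact ((h.pi_eq_one_iff hQT (o b)).mp hb) ⟨x, hx⟩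
    obtain ⟨z, hz, hzS, rfl⟩ := exists_of_mem_imageAlong hzb
    obtain ⟨cz, hcz, hcze⟩ := exists_autInducedBy (K := U) (hQU hz) (Subgroup.le_normalizer (hQU hz))
    have hczI : cz ∈ Inn U := inn_eq_autInducedBy (P := U) ▸ hcz
    have h1 : cz⁻¹ * (b : MulAut U) ∈ h.gen.autGroup U ⊓ trivImg θ U := by
      refine ⟨Subgroup.mul_mem _ (Subgroup.inv_mem _ (inn_le_autGroup hUT hczI)) b.2.1, fun x => ?_⟩
      obtain ⟨i, hi, -, hie⟩ := exists_mapFn_of_aut hUS
        (Subgroup.inv_mem _ (inn_le_autGroup (F := F) hUS hczI))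
      have hm := img_mem_imageAlong (θ := θ) hUS x.2
      have e1 : img θ (((b : MulAut U) x : U) : Ω) = img θ ((cz x : U) : Ω) := by
        rw [hcze, img_conj hzS (hUS x.2), ← hzv _ hm, hve ⟨_, hm⟩]
        exact (hcd x hm).symm
      rw [MulAut.mul_apply, ← hie, h.img_congr hi (Subtype.mem _) (Subtype.mem _) e1, hie,
        MulAut.inv_apply_self]
    have h2 : (b : MulAut U) ∈ Inn U := by
      have := Subgroup.mul_mem _ hczI (hIH h1)
      rwa [mul_inv_cancel_left] at this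
    obtain ⟨w, hw⟩ := mem_inn.mp h2
    exact mem_autInducedBy.mpr ⟨w, hUT w.2, fun x => by rw [← ho b x, hw]; rfl⟩
  -- the image of `B'` is everything
  have htop : (B'.map ρ.rangeRestrict) = ⊤ := by
    have hVle : W ⊓ Subgroup.normalizer (Y : Set (MulAut (imageAlong θ Q))) ≤ ρ.range ∧
        (W ⊓ Subgroup.normalizer (Y : Set (MulAut (imageAlong θ Q)))).subgroupOf ρ.range ≤ B'.map ρ.rangeRestrict := by
      have : ∀ a ∈ W ⊓ Subgroup.normalizer (Y : Set (MulAut (imageAlong θ Q))), ∃ b ∈ B', ρ b = a := by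
        rintro a ⟨haW, haN⟩
        obtain ⟨c, hc, hce⟩ := h.exists_autInducedBy_bar hQT hQ.2.1 haW
        obtain ⟨t, ht, hte⟩ := mem_autInducedBy.mp hc
        have htN : t ∈ normalizerIn T Q := ⟨ht, mem_normalizer_of_aut hte⟩
        have hat : ∀ y : (imageAlong θ Q), ((a y : (imageAlong θ Q)) : Ω') = img θ t * y * (img θ t)⁻¹ := by
          rintro ⟨y, hy⟩
          obtain ⟨x, hx, hxS, rfl⟩ := exists_of_mem_imageAlong hy
          rw [← hce, h.pi_down hQT c ⟨x, hx⟩ hy, hte, img_conj (hTS ht) hxS]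
        have htU : t ∈ Subgroup.normalizer (U : Set Ω) := mem_normalizer_of_forall fun x hx => by
          obtain ⟨d, hd, hde⟩ := exists_autInducedBy (K := imageAlong θ U) (img_mem_imageAlong hUS hx)
            (show img θ x ∈ Subgroup.normalizer ((imageAlong θ Q) : Set Ω') from by
              have := h.bar_normalizer hQT hQ.2.1 ▸
                img_mem_imageAlong (θ := θ) (normalizerIn_le.trans hTS) (hU hx)
              exact this.2)
          refine h.mem_of_induced hQ hQU hU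
            (Subgroup.mul_mem _ (Subgroup.mul_mem _ htN (hU hx)) (Subgroup.inv_mem _ htN)) (fun y => ?_)
            ((Subgroup.mem_normalizer_iff.mp haN d).mp hd)
          have h1 := hat (a⁻¹ y)
          rw [MulAut.apply_inv_self] at h1
          rw [MulAut.mul_apply, MulAut.mul_apply, hat, hde, img_conj (hTS ht) (hUS hx), h1]
          group
        obtain ⟨ct, hct, hcte⟩ := exists_autInducedBy (K := T) ht htU
        have hctc : Restr hQU ct (c : MulAut Q) := fun x => (hcte _).trans (hte x).symm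
        refine ⟨⟨ct, autInducedBy_le_autGroup hUT hct, c, Subgroup.mem_top _, hctc⟩, hB'mem _ ?_, ?_⟩
        · rw [(ho _).unique hctc]; exact hAW hc
        · show h.pi hQT (o _) = a
          rw [← hce]
          congr 1
          exact Subtype.ext ((ho _).unique hctc)
      refine ⟨fun a ha => ?_, fun a ha => ?_⟩
      · obtain ⟨b, -, hb⟩ := this a ha
        exact ⟨b, hb⟩
      · obtain ⟨b, hbB, hb⟩ := this a ha
        exact ⟨b, hbB, Subtype.ext hb⟩
    refine eq_top_of_coprime_index (p := p) hVle.2 ?_ fun c hc => ?_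
    · have hVp : IsPGroup p ↥((W ⊓ Subgroup.normalizer (Y : Set (MulAut (imageAlong θ Q)))).subgroupOf ρ.range) :=
        ((isPGroup_autInducedBy h.pgroup_T' (imageAlong θ Q)).to_le inf_le_left).comap_subtype
      obtain ⟨R, hR⟩ := hVp.exists_le_sylow
      have hRW : (R : Subgroup ρ.range).map ρ.range.subtype ≤ W := hmax _ (R.2.map _)
        (by rintro _ ⟨⟨_, b, rfl⟩, -, rfl⟩; exact hρY b) fun a ha => ⟨⟨a, hVle.1 ha⟩, hR ha, rfl⟩
      have heq : (R : Subgroup ρ.range) =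
          (W ⊓ Subgroup.normalizer (Y : Set (MulAut (imageAlong θ Q)))).subgroupOf ρ.range := by
        refine le_antisymm (fun a ha => ⟨hRW ⟨a, ha, rfl⟩, ?_⟩) hR
        obtain ⟨b, hb⟩ := a.2
        have h2 := (hρY b).2
        rw [hb] at h2
        exact h2
      rw [← heq]
      exact R.not_dvd_index
    · obtain ⟨b, rfl⟩ := ρ.rangeRestrict_surjective c
      obtain ⟨r, hr, hr1⟩ := Fusion.PPrimeRes.exists_coprime_part (p := p) (b : MulAut U)
        (m := orderOf (ρ b)) (by rw [← Subgroup.orderOf_coe] at hc; exact hc)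
      refine ⟨b ^ r, hB'mem _ (hAp _ (o _).2 (Nat.Coprime.coprime_dvd_left ?_ hr)), Subtype.ext ?_⟩
      · refine orderOf_dvd_of_pow_eq_one ?_
        have h1 := (ho (b ^ r)).pow (orderOf ((b : MulAut U) ^ r))
        rw [SubmonoidClass.coe_pow, pow_orderOf_eq_one] at h1
        exact h1.unique fun x => rfl
      · show ρ (b ^ r) = ρ b
        rw [map_pow]
        conv_rhs => rw [← pow_one (ρ b)]
        exact pow_eq_pow_iff_modEq.mpr hr1
  -- conclude
  obtain ⟨b, hb, hbe⟩ := hg.exists_aut hgU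
  obtain ⟨a, ha, hae⟩ := (hg.mono hQU).exists_aut hgQ
  have hbB : b ∈ B := ⟨hb, a, Subgroup.mem_top _, fun x => (hbe _).trans (hae x).symm⟩
  obtain ⟨c, hc, hce⟩ := htop.ge (Subgroup.mem_top (ρ.rangeRestrict ⟨b, hbB⟩))
  have h1 : (⟨b, hbB⟩ : B) * c⁻¹ ∈ B' := hkerB _ (by
    have e1 : ρ c = ρ ⟨b, hbB⟩ := congrArg Subtype.val hce
    rw [map_mul, map_inv, e1, mul_inv_cancel])
  have h2 := B'.mul_mem h1 hc
  rw [inv_mul_cancel_right] at h2
  obtain ⟨-, o', ho', ho'e⟩ := Subgroup.mem_subgroupOf.mp h2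
  exact ⟨o', ho', fun x => (ho'e x).symm.trans (hbe _)⟩

include hQ hn hAW hAp in
/-- Lifted maps stabilizing `Q` on subgroups of `N_T(Q)` properly above `Q` restrict into `A`. -/
theorem inA_of_stab
    (hIH : ∀ R, LiftCentric θ Z N R → Nat.card Q < Nat.card R →
      h.gen.autGroup R ⊓ trivImg θ R ≤ Inn R)
    {U : Subgroup Ω} (hQU : Q < U) (hU : U ≤ normalizerIn (preimageAlong θ T') Q) {g : Ω → Ω}
    (hg : MapFn h.gen U g) (hgQ : g '' Q = (Q : Set Ω)) : InA A g := by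
  set T := preimageAlong θ T' with hT
  have hTS : T ≤ S := h.scT.1
  have := finite_of_le hTS
  have := h.finite_T'
  have hQbT : imageAlong θ Q ≤ T' := h.bar_le hQ.1
  have := finite_mulAut hQbT
  set NQ := normalizerIn T Q with hNQ
  have hNQT : NQ ≤ T := normalizerIn_le
  set Γ := N.autGroup (imageAlong θ Q) with hΓ
  set W := autInducedBy T' (imageAlong θ Q) with hW
  obtain ⟨⟨-, Rs, hRs⟩, -⟩ := fullyNormalized_good h.pgroup_T' h.normal.1.1 hn
  have hWΓ : W ≤ Γ := autInducedBy_le_autGroup hQbT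
  suffices H : ∀ (m : ℕ) (U : Subgroup Ω) (g : Ω → Ω), Nat.card NQ - Nat.card U < m → Q < U → U ≤ NQ →
      MapFn h.gen U g → g '' Q = (Q : Set Ω) → InA A g from H _ U g (Nat.lt_succ_self _) hQU hU hg hgQ
  clear hQU hU hg hgQ
  intro m
  induction m with
  | zero => intro U g hm; omega
  | succ m ih =>
  intro U g hm hQU hU hg hgQ
  have hUT : U ≤ T := hU.trans hNQT
  have hUS : U ≤ S := hUT.trans hTS
  have hUc : LiftCentric θ Z N U := h.centric_of_le hQ hQU.le hUT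
  have hcard : Nat.card Q < Nat.card U := card_lt_card hUS hQU
  obtain ⟨U', -, hU'⟩ := hg.exists_image
  have hU'N : U' ≤ NQ := fun y hy => by
    obtain ⟨x, hx, rfl⟩ := exists_of_image hU' hy
    exact hg.mem_normalizerIn hQU.le hgQ hx (hU hx).2
  have hQU' : Q ≤ U' := fun y hy => by
    obtain ⟨x, hx, rfl⟩ := exists_of_image hgQ hy
    exact mem_of_image hU' (hQU.le hx)
  by_cases hUN : U = NQ
  · subst hUN
    have hgU : g '' (normalizerIn T Q : Set Ω) = (normalizerIn T Q : Set Ω) :=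
      hg.image_eq_of_maps hUT (fun x hx => hU'N (mem_of_image hU' hx)) le_rfl
    refine h.inA_of_aut hQ hAW hAp hQU.le le_rfl (hIH _ hUc hcard) (fun R hRp hRle hVR => ?_) hg hgU hgQ
    have hWR : W ≤ R := fun a ha => hVR ⟨ha, by
      have e1 : autInducedBy (imageAlong θ (normalizerIn T Q)) (imageAlong θ Q) = W := by
        refine le_antisymm (autInducedBy_mono (h.bar_le hUT) _) fun b hb => ?_
        obtain ⟨t, ht, hte⟩ := mem_autInducedBy.mp hb
        refine mem_autInducedBy.mpr ⟨t, ?_, hte⟩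
        rw [h.bar_normalizer hQ.1 hQ.2.1]
        exact ⟨ht, mem_normalizer_of_aut hte⟩
      rw [e1]
      exact Subgroup.le_normalizer ha⟩
    have hR : R.subgroupOf Γ = (Rs : Subgroup Γ) :=
      Rs.is_maximal' hRp.comap_subtype fun a ha => hWR (hRs.le ha)
    intro a ha
    exact hRs.le (hR.le (show (⟨a, (hRle ha).1⟩ : Γ) ∈ R.subgroupOf Γ from ha))
  have hlt : U < NQ := lt_of_le_of_ne hU hUN
  have hcU' : Nat.card U' = Nat.card U := hg.card_image hU'
  have hU'lt : U' < NQ := lt_of_le_of_ne hU'N fun he => by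
    have := card_lt_card (hNQT.trans hTS) hlt
    rw [← he, hcU'] at this
    exact lt_irrefl _ this
  have := finite_of_le hUS
  have := finite_of_le (hQ.1.trans hTS)
  -- the maximal position
  set Y := autInducedBy (imageAlong θ U) (imageAlong θ Q) with hY
  have hYW : Y ≤ W := autInducedBy_mono (h.bar_le hUT) _
  set G := Γ ⊓ Subgroup.normalizer (Y : Set (MulAut (imageAlong θ Q))) with hG
  obtain ⟨R₀, hR₀⟩ := (((isPGroup_autInducedBy h.pgroup_T' _).to_le inf_le_left).comap_subtype (K := G) :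
    IsPGroup p ((W ⊓ Subgroup.normalizer (Y : Set (MulAut (imageAlong θ Q)))).subgroupOf G)).exists_le_sylow
  obtain ⟨y, hy, hyW⟩ := FullyAutomized.exists_conj
    (fullyNormalized_good h.pgroup_T' h.normal.1.1 hn).1
    (A := (R₀ : Subgroup G).map G.subtype) ((Subgroup.map_subtype_le _).trans inf_le_left) (R₀.2.map _)
  set Y₁ := Y.map (MulAut.conj y).toMonoidHom with hY₁
  have hmax : ∀ R : Subgroup (MulAut (imageAlong θ Q)), IsPGroup p R →
      R ≤ Γ ⊓ Subgroup.normalizer (Y₁ : Set (MulAut (imageAlong θ Q))) →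
      W ⊓ Subgroup.normalizer (Y₁ : Set (MulAut (imageAlong θ Q))) ≤ R → R ≤ W := by
    intro R hRp hRle hVR a ha
    set R' := R.map (MulAut.conj y⁻¹).toMonoidHom with hR'
    have hback : Y₁.map (MulAut.conj y⁻¹).toMonoidHom = Y := by
      rw [hY₁, Subgroup.map_map]
      convert Subgroup.map_id Y
      ext b x
      simp [mul_assoc]
    have hR'G : R' ≤ G := by
      rintro _ ⟨b, hb, rfl⟩
      exact ⟨Γ.mul_mem (Γ.mul_mem (Γ.inv_mem hy) (hRle hb).1) (Γ.inv_mem (Γ.inv_mem hy)),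
        conj_map_normalizer hback (hRle hb).2⟩
    have hle : (R₀ : Subgroup G) ≤ R'.subgroupOf G := by
      intro b hb
      refine Subgroup.mem_subgroupOf.mpr ⟨y * b * y⁻¹, hVR ⟨hyW _ ⟨b, hb, rfl⟩, ?_⟩, by simp [mul_assoc]⟩
      exact conj_map_normalizer hY₁.symm b.2.2
    have heq : R'.subgroupOf G = (R₀ : Subgroup G) :=
      R₀.is_maximal' (hRp.map _).comap_subtype hle
    have ha' : (MulAut.conj y⁻¹).toMonoidHom a ∈ R' := ⟨a, ha, rfl⟩
    have h1 : (⟨_, hR'G ha'⟩ : G) ∈ (R₀ : Subgroup G) := heq.le ha'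
    simpa [mul_assoc] using hyW _ ⟨_, h1, rfl⟩
  obtain ⟨η₁, U₁, hη₁, hη₁Q, hη₁U, hU₁N, hU₁Y⟩ := h.exists_push hQ hn hQU.le hU hmax hy rfl
  obtain ⟨a₀, ha₀, ha₀e⟩ := (h.mapFn_gen_D₀ (hg.mono hQU.le)).exists_aut hgQ
  set x₀ := h.pi hQ.1 ⟨a₀, ha₀⟩ with hx₀
  have hUS' : U' ≤ S := hU'N.trans (hNQT.trans hTS)
  have hxY : Y.map (MulAut.conj x₀).toMonoidHom = autInducedBy (imageAlong θ U') (imageAlong θ Q) := by
    obtain ⟨-, -, v, hv, hve⟩ := h.mapFn_D₀.mp (h.mapFn_gen_D₀ hg)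
    have hd : ∀ (q : Ω) (hq : q ∈ Q) (hm : img θ q ∈ imageAlong θ Q),
        ((x₀ ⟨img θ q, hm⟩ : imageAlong θ Q) : Ω') = img θ (g q) := fun q hq hm => by
      rw [hx₀, h.pi_down hQ.1 _ ⟨q, hq⟩ hm]
      exact congrArg _ (ha₀e ⟨q, hq⟩)
    have key : ∀ u ∈ U, ∀ b b' : MulAut (imageAlong θ Q),
        (∀ z : imageAlong θ Q, ((b z : imageAlong θ Q) : Ω') = img θ u * z * (img θ u)⁻¹) →
        (∀ z : imageAlong θ Q, ((b' z : imageAlong θ Q) : Ω') = img θ (g u) * z * (img θ (g u))⁻¹) →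
        x₀ * b * x₀⁻¹ = b' := by
      intro u hu b b' hb hb'
      refine MulEquiv.ext fun z => Subtype.ext ?_
      obtain ⟨z, rfl⟩ := x₀.surjective z
      obtain ⟨z, hz⟩ := z
      obtain ⟨q, hq, hqS, rfl⟩ := exists_of_mem_imageAlong hz
      have huq : u * q * u⁻¹ ∈ Q := conj_mem_of_normalizer (hU hu).2 hq
      have e1 : b ⟨img θ q, hz⟩ = ⟨img θ (u * q * u⁻¹), img_mem_imageAlong (hQ.1.trans hTS) huq⟩ :=
        Subtype.ext ((hb _).trans (img_conj (hUS hu) hqS).symm)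
      rw [hb', MulAut.mul_apply, MulAut.mul_apply, MulAut.inv_apply_self, e1, hd _ huq, hd q hq,
        hg.map_conj hu (hQU.le hq), img_conj (hTS (hg.mem_S hu)) (hTS (hg.mem_S (hQU.le hq)))]
    have hnorm : ∀ {u : Ω}, u ∈ NQ → img θ u ∈ Subgroup.normalizer (imageAlong θ Q : Set Ω') :=
      fun {u} hu => by
        have := h.bar_normalizer hQ.1 hQ.2.1 ▸ img_mem_imageAlong (θ := θ) (hNQT.trans hTS) hu
        exact this.2
    ext b
    constructor
    · rintro ⟨c, hc, rfl⟩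
      obtain ⟨_, hu, hue⟩ := mem_autInducedBy.mp hc
      obtain ⟨u, hu', -, rfl⟩ := exists_of_mem_imageAlong hu
      obtain ⟨b', hb', hb'e⟩ := exists_autInducedBy (K := imageAlong θ U')
        (img_mem_imageAlong hUS' (mem_of_image hU' hu')) (hnorm (hU'N (mem_of_image hU' hu')))
      show x₀ * c * x₀⁻¹ ∈ _
      rw [key u hu' c b' hue hb'e]; exact hb'
    · intro hb
      obtain ⟨_, hu, hue⟩ := mem_autInducedBy.mp hb
      obtain ⟨w, hw, -, rfl⟩ := exists_of_mem_imageAlong hu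
      obtain ⟨u, hu', rfl⟩ := exists_of_image hU' hw
      obtain ⟨c, hc, hce⟩ := exists_autInducedBy (K := imageAlong θ U)
        (img_mem_imageAlong hUS hu') (hnorm (hU hu'))
      exact ⟨c, hc, key u hu' c b hce hue⟩
  obtain ⟨η₂, U₂, hη₂, hη₂Q, hη₂U, hU₂N, hU₂Y⟩ := h.exists_push hQ hn hQU' hU'N hmax
    (z := y * x₀⁻¹) (Γ.mul_mem hy (Γ.inv_mem (h.pi_mem hQ.1 _))) (by
      rw [hY₁, ← hxY, Subgroup.map_map]
      congr 1
      ext b x
      simp [mul_assoc])
  -- both images coincide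
  have hQη : ∀ {η : Ω → Ω} {V V₁ : Subgroup Ω}, Q ≤ V → η '' Q = (Q : Set Ω) →
      η '' V = (V₁ : Set Ω) → Q ≤ V₁ := fun hQV hηQ hηV y hy => by
    obtain ⟨x, hx, rfl⟩ := exists_of_image hηQ hy
    exact mem_of_image hηV (hQV hx)
  have hsame : ∀ {A₁ A₂ : Subgroup Ω}, Q ≤ A₁ → A₁ ≤ NQ → A₂ ≤ NQ →
      autInducedBy (imageAlong θ A₁) (imageAlong θ Q) = autInducedBy (imageAlong θ A₂) (imageAlong θ Q) →
      A₂ ≤ A₁ := by
    intro A₁ A₂ hQA h1 h2 he t ht
    obtain ⟨c, hc, hce⟩ := exists_autInducedBy (K := imageAlong θ A₂)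
      (img_mem_imageAlong (h2.trans (hNQT.trans hTS)) ht)
      (show img θ t ∈ Subgroup.normalizer (imageAlong θ Q : Set Ω') from by
        have := h.bar_normalizer hQ.1 hQ.2.1 ▸ img_mem_imageAlong (θ := θ) (hNQT.trans hTS) (h2 ht)
        exact this.2)
    exact h.mem_of_induced hQ hQA h1 (h2 ht) hce (he ▸ hc)
  obtain rfl : U₁ = U₂ := le_antisymm
    (hsame (hQη hQU' hη₂Q hη₂U) hU₂N hU₁N (hU₂Y.trans hU₁Y.symm))
    (hsame (hQη hQU.le hη₁Q hη₁U) hU₁N hU₂N (hU₁Y.trans hU₂Y.symm))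
  set M₁ := normalizerIn NQ U with hM₁
  set M₂ := normalizerIn NQ U' with hM₂
  have hUM₁ : U < M₁ := Fusion.lt_normalizerIn h.pgroup_T (hNQT) hlt
  have hU'M₂ : U' < M₂ := Fusion.lt_normalizerIn h.pgroup_T (hNQT) hU'lt
  have hM₁S : M₁ ≤ S := normalizerIn_le.trans (hNQT.trans hTS)
  have hM₂S : M₂ ≤ S := normalizerIn_le.trans (hNQT.trans hTS)
  have hc1 := card_lt_card hM₁S hUM₁
  have hc2 := card_lt_card hM₂S hU'M₂
  have := finite_of_le (hNQT.trans hTS)
  have hN1 : Nat.card M₁ ≤ Nat.card NQ := Subgroup.card_le_of_le normalizerIn_le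
  have hN2 : Nat.card M₂ ≤ Nat.card NQ := Subgroup.card_le_of_le normalizerIn_le
  have hη₁A : InA A η₁ := ih M₁ η₁ (by omega) (hQU.trans hUM₁) normalizerIn_le hη₁ hη₁Q
  have hη₂A : InA A η₂ := ih M₂ η₂ (by omega) (lt_of_le_of_lt hQU' hU'M₂) normalizerIn_le hη₂ hη₂Q
  obtain ⟨μ, hμ, hμr, hμ₁, -⟩ := (hη₁.mono hUM₁.le).exists_inv hη₁U
  have hgU' : ∀ x ∈ U, g x ∈ U' := fun x hx => mem_of_image hU' hx
  have hcomp : MapFn h.gen U₁ (η₂ ∘ g ∘ μ) :=
    (hμ.comp hg fun x hx => mem_of_image hμr hx).comp (hη₂.mono hU'M₂.le)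
      fun x hx => hgU' _ (mem_of_image hμr hx)
  have hμQ : μ '' Q = (Q : Set Ω) := by
    conv_lhs => rw [← hη₁Q, Set.image_image]
    exact (Set.image_congr fun x hx => hμ₁ x (hQU.le hx)).trans (Set.image_id' _)
  have hμA : InA A μ := hη₁A.inv fun x hx => hμ₁ x (hQU.le hx)
  have hU₁T : U₁ ≤ T := hU₁N.trans hNQT
  have hQU₁ : Q ≤ U₁ := hQη hQU.le hη₁Q hη₁U
  have hmain : InA A (η₂ ∘ g ∘ μ) := by
    refine h.inA_of_aut hQ hAW hAp hQU₁ hU₁N (hIH _ (h.centric_of_le hQ hQU₁ hU₁T) ?_) ?_ hcomp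
      (image_comp (image_comp hμr hU') hη₂U) (image_comp (image_comp hμQ hgQ) hη₂Q)
    · rw [(hη₁.mono hUM₁.le).card_image hη₁U]; exact hcard
    · rw [hU₁Y]; exact hmax
  obtain ⟨ν, -, -, hν₁, -⟩ := (hη₂.mono hU'M₂.le).exists_inv hη₂U
  have hνA : InA A ν := hη₂A.inv fun x hx => hν₁ x (hQU' hx)
  refine ((hη₁A.comp hmain).comp hνA).congr fun x hx => ?_
  show ν (η₂ (g (μ (η₁ x)))) = g x
  rw [hμ₁ x (hQU.le hx), hν₁ _ (hgU' x (hQU.le hx))]

end LiftSetup

end CfsgLib.FusionLayer
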